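import Mathlib
import Cfsg.Prelude.Def_Sporadic_a

/-! Counting lemmas for Steiner systems. -/

set_option autoImplicit false

namespace Cfsg.Lib.Steiner

open Finset

variable {α : Type*}

open Classical in
/-- The blocks of `B` containing `s`, as a finset. -/
noncomputable def thru [Fintype α] (B : Set (Finset α)) (s : Finset α) : Finset (Finset α) :=
  univ.filter fun b => b ∈ B ∧ s ⊆ b

theorem mem_thru [Fintype α] {B : Set (Finset α)} {s b : Finset α} :
    b ∈ thru B s ↔ b ∈ B ∧ s ⊆ b := by
  simp [thru]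

theorem coe_thru_empty [Fintype α] (B : Set (Finset α)) : (thru B ∅ : Set (Finset α)) = B := by
  ext b; simp [mem_thru]

theorem ncard_eq_card_thru [Fintype α] (B : Set (Finset α)) : B.ncard = (thru B ∅).card := by
  rw [← Set.ncard_coe_finset, coe_thru_empty]

theorem block_card {t k : ℕ} {B : Set (Finset α)} (hB : IsSteinerSystem t k B) {b : Finset α}
    (hb : b ∈ B) : b.card = k := hB.1 b hb

theorem exists_block {t k : ℕ} {B : Set (Finset α)} (hB : IsSteinerSystem t k B) {s : Finset α}
    (hs : s.card = t) : ∃ b ∈ B, s ⊆ b := (hB.2 s hs).exists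

theorem block_eq_of_subset {t k : ℕ} {B : Set (Finset α)} (hB : IsSteinerSystem t k B)
    {s b c : Finset α} (hs : t ≤ s.card) (hb : b ∈ B) (hc : c ∈ B) (hsb : s ⊆ b) (hsc : s ⊆ c) :
    b = c := by
  obtain ⟨s', hs', hc'⟩ := exists_subset_card_eq hs
  exact (hB.2 s' hc').unique ⟨hb, hs'.trans hsb⟩ ⟨hc, hs'.trans hsc⟩

theorem block_eq_of_inter [DecidableEq α] {t k : ℕ} {B : Set (Finset α)}
    (hB : IsSteinerSystem t k B) {b c : Finset α} (hb : b ∈ B) (hc : c ∈ B)
    (h : t ≤ (b ∩ c).card) : b = c :=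
  block_eq_of_subset hB h hb hc inter_subset_left inter_subset_right

theorem inter_card_lt [DecidableEq α] {t k : ℕ} {B : Set (Finset α)}
    (hB : IsSteinerSystem t k B) {b c : Finset α} (hb : b ∈ B) (hc : c ∈ B) (h : b ≠ c) :
    (b ∩ c).card < t := by
  by_contra h'
  exact h (block_eq_of_inter hB hb hc (not_lt.mp h'))

/-- Basic double count. -/
theorem sum_choose_inter [Fintype α] [DecidableEq α] (B : Set (Finset α)) (s X : Finset α) (i : ℕ) :
    ∑ c ∈ thru B s, ((c ∩ X).card).choose i = ∑ u ∈ powersetCard i X, (thru B (s ∪ u)).card := by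
  classical
  have h1 : ∀ c ∈ thru B s, ((c ∩ X).card).choose i
      = ∑ u ∈ powersetCard i X, if u ⊆ c then 1 else 0 := by
    intro c _
    rw [← card_powersetCard, ← card_filter]
    congr 1
    ext u
    simp only [mem_powersetCard, subset_inter_iff, mem_filter]
    tauto
  rw [sum_congr rfl h1, sum_comm]
  refine sum_congr rfl fun u _ => ?_
  rw [← card_filter]
  congr 1
  ext c
  simp only [mem_filter, mem_thru, union_subset_iff]
  tauto

theorem card_thru_of_card_eq [Fintype α] {t k : ℕ} {B : Set (Finset α)}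
    (hB : IsSteinerSystem t k B) {s : Finset α} (hs : s.card = t) : (thru B s).card = 1 := by
  obtain ⟨b, hb, hu⟩ := hB.2 s hs
  rw [card_eq_one]
  refine ⟨b, ?_⟩
  ext c
  simp only [mem_thru, mem_singleton]
  exact ⟨fun h => hu c h, fun h => h ▸ hb⟩

/-- The number of blocks through an `i`-set. -/
theorem card_thru_mul [Fintype α] [DecidableEq α] {t k : ℕ} {B : Set (Finset α)}
    (hB : IsSteinerSystem t k B) (s : Finset α) (hs : s.card ≤ t) :
    (thru B s).card * (k - s.card).choose (t - s.card)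
      = (Fintype.card α - s.card).choose (t - s.card) := by
  have h := sum_choose_inter B s sᶜ (t - s.card)
  have h1 : ∀ c ∈ thru B s, ((c ∩ sᶜ).card).choose (t - s.card)
      = (k - s.card).choose (t - s.card) := by
    intro c hc
    rw [mem_thru] at hc
    rw [← sdiff_eq_inter_compl, card_sdiff_of_subset hc.2, hB.1 c hc.1]
  have h2 : ∀ u ∈ powersetCard (t - s.card) sᶜ, (thru B (s ∪ u)).card = 1 := by
    intro u hu
    rw [mem_powersetCard] at hu
    apply card_thru_of_card_eq hB
    rw [card_union_of_disjoint, hu.2]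
    · omega
    · exact disjoint_compl_right.mono_right hu.1
  rw [sum_congr rfl h1, sum_congr rfl h2] at h
  simpa [card_powersetCard, card_compl] using h

theorem card_thru_eq [Fintype α] [DecidableEq α] {t k v : ℕ} {B : Set (Finset α)}
    (hB : IsSteinerSystem t k B) (hv : Fintype.card α = v) {i l : ℕ} (hi : i ≤ t)
    (hpos : 0 < (k - i).choose (t - i)) (hl : l * (k - i).choose (t - i) = (v - i).choose (t - i))
    {s : Finset α} (hs : s.card = i) : (thru B s).card = l := by
  have h := card_thru_mul hB s (hs ▸ hi)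
  rw [hs, hv, ← hl] at h
  exact Nat.eq_of_mul_eq_mul_right hpos h

/-- Double count with a constant number of blocks through the relevant sets. -/
theorem sum_choose_inter_eq [Fintype α] [DecidableEq α] {B : Set (Finset α)} {s X : Finset α}
    {i l : ℕ} (hd : Disjoint s X) (hl : ∀ u : Finset α, u.card = s.card + i → (thru B u).card = l) :
    ∑ c ∈ thru B s, ((c ∩ X).card).choose i = X.card.choose i * l := by
  rw [sum_choose_inter]
  have h2 : ∀ u ∈ powersetCard i X, (thru B (s ∪ u)).card = l := by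
    intro u hu
    rw [mem_powersetCard] at hu
    apply hl
    rw [card_union_of_disjoint (hd.mono_right hu.1), hu.2]
  rw [sum_congr rfl h2]
  simp [card_powersetCard]

/-- Number of members `c` of `F` with `|c ∩ X| = j`. -/
def nInter [DecidableEq α] (F : Finset (Finset α)) (X : Finset α) (j : ℕ) : ℕ :=
  (F.filter fun c => (c ∩ X).card = j).card

theorem sum_eq_sum_nInter [DecidableEq α] (F : Finset (Finset α)) (X : Finset α) (m : ℕ)
    (hm : ∀ c ∈ F, (c ∩ X).card < m) (g : ℕ → ℕ) :
    ∑ c ∈ F, g (c ∩ X).card = ∑ j ∈ range m, nInter F X j * g j := by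
  rw [← sum_fiberwise_of_maps_to (s := F) (t := range m) (g := fun c => (c ∩ X).card)
    (fun c hc => mem_range.2 (hm c hc))]
  refine sum_congr rfl fun j _ => ?_
  rw [sum_congr rfl (g := fun _ => g j)]
  · simp [nInter]
  · intro c hc
    rw [(mem_filter.1 hc).2]

theorem ne_of_nInter_eq_zero [DecidableEq α] {F : Finset (Finset α)} {X : Finset α} {j : ℕ}
    (h : nInter F X j = 0) {c : Finset α} (hc : c ∈ F) : (c ∩ X).card ≠ j := by
  intro hj
  rw [nInter, card_eq_zero, filter_eq_empty_iff] at h
  exact h hc hj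

/-- The intersection-number equations for a fixed block. -/
theorem inter_eqn [Fintype α] [DecidableEq α] {t k : ℕ} {B : Set (Finset α)}
    (hB : IsSteinerSystem t k B) {b : Finset α} (hb : b ∈ B) {i l : ℕ}
    (hl : ∀ u : Finset α, u.card = i → (thru B u).card = l) :
    ∑ j ∈ range t, nInter ((thru B ∅).erase b) b j * j.choose i + k.choose i = k.choose i * l := by
  have h := sum_choose_inter_eq (B := B) (s := ∅) (X := b) (i := i) (l := l) (by simp)
    (by simpa using hl)
  have hb' : b ∈ thru B ∅ := mem_thru.2 ⟨hb, empty_subset _⟩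
  rw [← add_sum_erase _ _ hb', inter_self, hB.1 b hb, add_comm,
    sum_eq_sum_nInter _ _ t _ (fun j => j.choose i)] at h
  · exact h
  · intro c hc
    rw [mem_erase, mem_thru] at hc
    exact inter_card_lt hB hc.2.1 hb hc.1

theorem mem_erase_thru [Fintype α] [DecidableEq α] {B : Set (Finset α)} {b c : Finset α}
    (hc : c ∈ B) (h : c ≠ b) : c ∈ (thru B ∅).erase b :=
  mem_erase.2 ⟨h, mem_thru.2 ⟨hc, empty_subset _⟩⟩

section S22
variable [Fintype α] [DecidableEq α] {B : Set (Finset α)}

theorem lam22 (hα : Fintype.card α = 22) (hB : IsSteinerSystem 3 6 B) :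
    (∀ u : Finset α, u.card = 0 → (thru B u).card = 77) ∧
    (∀ u : Finset α, u.card = 1 → (thru B u).card = 21) ∧
    (∀ u : Finset α, u.card = 2 → (thru B u).card = 5) :=
  ⟨fun _ h => card_thru_eq hB hα (by decide) (by decide) (by decide) h,
   fun _ h => card_thru_eq hB hα (by decide) (by decide) (by decide) h,
   fun _ h => card_thru_eq hB hα (by decide) (by decide) (by decide) h⟩

theorem nInter22 (hα : Fintype.card α = 22) (hB : IsSteinerSystem 3 6 B) {b : Finset α}
    (hb : b ∈ B) : nInter ((thru B ∅).erase b) b 0 = 16 ∧ nInter ((thru B ∅).erase b) b 1 = 0 ∧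
      nInter ((thru B ∅).erase b) b 2 = 60 := by
  obtain ⟨l0, l1, l2⟩ := lam22 hα hB
  have h0 := inter_eqn hB hb l0
  have h1 := inter_eqn hB hb l1
  have h2 := inter_eqn hB hb l2
  simp only [sum_range_succ, range_zero, sum_empty, Nat.choose] at h0 h1 h2
  omega

theorem inter22 (hα : Fintype.card α = 22) (hB : IsSteinerSystem 3 6 B) {b c : Finset α}
    (hb : b ∈ B) (hc : c ∈ B) (h : b ≠ c) : (b ∩ c).card = 0 ∨ (b ∩ c).card = 2 := by
  have h1 := ne_of_nInter_eq_zero (nInter22 hα hB hc).2.1 (mem_erase_thru hb h)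
  have h2 := inter_card_lt hB hb hc h
  omega

end S22

section S23
variable [Fintype α] [DecidableEq α] {B : Set (Finset α)}

theorem lam23 (hα : Fintype.card α = 23) (hB : IsSteinerSystem 4 7 B) :
    (∀ u : Finset α, u.card = 0 → (thru B u).card = 253) ∧
    (∀ u : Finset α, u.card = 1 → (thru B u).card = 77) ∧
    (∀ u : Finset α, u.card = 2 → (thru B u).card = 21) ∧
    (∀ u : Finset α, u.card = 3 → (thru B u).card = 5) :=
  ⟨fun _ h => card_thru_eq hB hα (by decide) (by decide) (by decide) h,
   fun _ h => card_thru_eq hB hα (by decide) (by decide) (by decide) h,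
   fun _ h => card_thru_eq hB hα (by decide) (by decide) (by decide) h,
   fun _ h => card_thru_eq hB hα (by decide) (by decide) (by decide) h⟩

theorem nInter23 (hα : Fintype.card α = 23) (hB : IsSteinerSystem 4 7 B) {b : Finset α}
    (hb : b ∈ B) : nInter ((thru B ∅).erase b) b 0 = 0 ∧ nInter ((thru B ∅).erase b) b 1 = 112 ∧
      nInter ((thru B ∅).erase b) b 2 = 0 ∧ nInter ((thru B ∅).erase b) b 3 = 140 := by
  obtain ⟨l0, l1, l2, l3⟩ := lam23 hα hB
  have h0 := inter_eqn hB hb l0
  have h1 := inter_eqn hB hb l1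
  have h2 := inter_eqn hB hb l2
  have h3 := inter_eqn hB hb l3
  simp only [sum_range_succ, range_zero, sum_empty, Nat.choose] at h0 h1 h2 h3
  omega

theorem inter23 (hα : Fintype.card α = 23) (hB : IsSteinerSystem 4 7 B) {b c : Finset α}
    (hb : b ∈ B) (hc : c ∈ B) (h : b ≠ c) : (b ∩ c).card = 1 ∨ (b ∩ c).card = 3 := by
  have h0 := ne_of_nInter_eq_zero (nInter23 hα hB hc).1 (mem_erase_thru hb h)
  have h1 := ne_of_nInter_eq_zero (nInter23 hα hB hc).2.2.1 (mem_erase_thru hb h)
  have h2 := inter_card_lt hB hb hc h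
  omega

end S23

section S24
variable [Fintype α] [DecidableEq α] {B : Set (Finset α)}

theorem lam24 (hα : Fintype.card α = 24) (hB : IsSteinerSystem 5 8 B) :
    (∀ u : Finset α, u.card = 0 → (thru B u).card = 759) ∧
    (∀ u : Finset α, u.card = 1 → (thru B u).card = 253) ∧
    (∀ u : Finset α, u.card = 2 → (thru B u).card = 77) ∧
    (∀ u : Finset α, u.card = 3 → (thru B u).card = 21) ∧
    (∀ u : Finset α, u.card = 4 → (thru B u).card = 5) :=
  ⟨fun _ h => card_thru_eq hB hα (by decide) (by decide) (by decide) h,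
   fun _ h => card_thru_eq hB hα (by decide) (by decide) (by decide) h,
   fun _ h => card_thru_eq hB hα (by decide) (by decide) (by decide) h,
   fun _ h => card_thru_eq hB hα (by decide) (by decide) (by decide) h,
   fun _ h => card_thru_eq hB hα (by decide) (by decide) (by decide) h⟩

theorem nInter24 (hα : Fintype.card α = 24) (hB : IsSteinerSystem 5 8 B) {b : Finset α}
    (hb : b ∈ B) : nInter ((thru B ∅).erase b) b 0 = 30 ∧ nInter ((thru B ∅).erase b) b 1 = 0 ∧
      nInter ((thru B ∅).erase b) b 2 = 448 ∧ nInter ((thru B ∅).erase b) b 3 = 0 ∧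
      nInter ((thru B ∅).erase b) b 4 = 280 := by
  obtain ⟨l0, l1, l2, l3, l4⟩ := lam24 hα hB
  have h0 := inter_eqn hB hb l0
  have h1 := inter_eqn hB hb l1
  have h2 := inter_eqn hB hb l2
  have h3 := inter_eqn hB hb l3
  have h4 := inter_eqn hB hb l4
  simp only [sum_range_succ, range_zero, sum_empty, Nat.choose] at h0 h1 h2 h3 h4
  omega

theorem inter24 (hα : Fintype.card α = 24) (hB : IsSteinerSystem 5 8 B) {b c : Finset α}
    (hb : b ∈ B) (hc : c ∈ B) (h : b ≠ c) :
    (b ∩ c).card = 0 ∨ (b ∩ c).card = 2 ∨ (b ∩ c).card = 4 := by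
  have h0 := ne_of_nInter_eq_zero (nInter24 hα hB hc).2.1 (mem_erase_thru hb h)
  have h1 := ne_of_nInter_eq_zero (nInter24 hα hB hc).2.2.2.1 (mem_erase_thru hb h)
  have h2 := inter_card_lt hB hb hc h
  omega

end S24

section S11
variable [Fintype α] [DecidableEq α] {B : Set (Finset α)}

theorem lam11 (hα : Fintype.card α = 11) (hB : IsSteinerSystem 4 5 B) :
    (∀ u : Finset α, u.card = 0 → (thru B u).card = 66) ∧
    (∀ u : Finset α, u.card = 1 → (thru B u).card = 30) ∧
    (∀ u : Finset α, u.card = 2 → (thru B u).card = 12) ∧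
    (∀ u : Finset α, u.card = 3 → (thru B u).card = 4) :=
  ⟨fun _ h => card_thru_eq hB hα (by decide) (by decide) (by decide) h,
   fun _ h => card_thru_eq hB hα (by decide) (by decide) (by decide) h,
   fun _ h => card_thru_eq hB hα (by decide) (by decide) (by decide) h,
   fun _ h => card_thru_eq hB hα (by decide) (by decide) (by decide) h⟩

theorem inter11 (hα : Fintype.card α = 11) (hB : IsSteinerSystem 4 5 B) {b c : Finset α}
    (hb : b ∈ B) (hc : c ∈ B) (h : b ≠ c) :
    (b ∩ c).card = 1 ∨ (b ∩ c).card = 2 ∨ (b ∩ c).card = 3 := by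
  obtain ⟨l0, l1, l2, l3⟩ := lam11 hα hB
  have h0 := inter_eqn hB hc l0
  have h1 := inter_eqn hB hc l1
  have h2 := inter_eqn hB hc l2
  have h3 := inter_eqn hB hc l3
  simp only [sum_range_succ, range_zero, sum_empty, Nat.choose] at h0 h1 h2 h3
  have h4 : nInter ((thru B ∅).erase c) c 0 = 0 := by omega
  have h5 := ne_of_nInter_eq_zero h4 (mem_erase_thru hb h)
  have h6 := inter_card_lt hB hb hc h
  omega

end S11

section S12
variable [Fintype α] [DecidableEq α] {B : Set (Finset α)}

theorem lam12 (hα : Fintype.card α = 12) (hB : IsSteinerSystem 5 6 B) :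
    (∀ u : Finset α, u.card = 0 → (thru B u).card = 132) ∧
    (∀ u : Finset α, u.card = 1 → (thru B u).card = 66) ∧
    (∀ u : Finset α, u.card = 2 → (thru B u).card = 30) ∧
    (∀ u : Finset α, u.card = 3 → (thru B u).card = 12) ∧
    (∀ u : Finset α, u.card = 4 → (thru B u).card = 4) :=
  ⟨fun _ h => card_thru_eq hB hα (by decide) (by decide) (by decide) h,
   fun _ h => card_thru_eq hB hα (by decide) (by decide) (by decide) h,
   fun _ h => card_thru_eq hB hα (by decide) (by decide) (by decide) h,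
   fun _ h => card_thru_eq hB hα (by decide) (by decide) (by decide) h,
   fun _ h => card_thru_eq hB hα (by decide) (by decide) (by decide) h⟩

theorem nInter12 (hα : Fintype.card α = 12) (hB : IsSteinerSystem 5 6 B) {b : Finset α}
    (hb : b ∈ B) : nInter ((thru B ∅).erase b) b 0 = 1 ∧ nInter ((thru B ∅).erase b) b 1 = 0 := by
  obtain ⟨l0, l1, l2, l3, l4⟩ := lam12 hα hB
  have h0 := inter_eqn hB hb l0
  have h1 := inter_eqn hB hb l1
  have h2 := inter_eqn hB hb l2
  have h3 := inter_eqn hB hb l3
  have h4 := inter_eqn hB hb l4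
  simp only [sum_range_succ, range_zero, sum_empty, Nat.choose] at h0 h1 h2 h3 h4
  omega

theorem inter12 (hα : Fintype.card α = 12) (hB : IsSteinerSystem 5 6 B) {b c : Finset α}
    (hb : b ∈ B) (hc : c ∈ B) (h : b ≠ c) :
    (b ∩ c).card = 0 ∨ (b ∩ c).card = 2 ∨ (b ∩ c).card = 3 ∨ (b ∩ c).card = 4 := by
  have h0 := ne_of_nInter_eq_zero (nInter12 hα hB hc).2 (mem_erase_thru hb h)
  have h2 := inter_card_lt hB hb hc h
  omega

theorem compl_mem12 (hα : Fintype.card α = 12) (hB : IsSteinerSystem 5 6 B) {b : Finset α}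
    (hb : b ∈ B) : bᶜ ∈ B := by
  have h := (nInter12 hα hB hb).1
  rw [nInter, card_eq_one] at h
  obtain ⟨c, hc⟩ := h
  have hc' : c ∈ ((thru B ∅).erase b).filter fun c => (c ∩ b).card = 0 := by
    rw [hc]; exact mem_singleton_self c
  rw [mem_filter, mem_erase, mem_thru, card_eq_zero, ← disjoint_iff_inter_eq_empty] at hc'
  have : c = bᶜ := by
    apply eq_of_subset_of_card_le (subset_compl_iff_disjoint_right.2 hc'.2)
    rw [card_compl, hα, hB.1 b hb, hB.1 c hc'.1.2.1]
  exact this ▸ hc'.1.2.1

end S12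

end Cfsg.Lib.Steiner
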