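import Mathlib
import Cfsg.Agent.Lib.Steiner.Basic

/-! A certificate checker for "up to relabelling" searches in Steiner systems. -/

set_option autoImplicit false

namespace Cfsg.Lib.Steiner

open Finset

/-- Number of set bits among the lowest `n` bits. -/
def pc : ℕ → ℕ → ℕ
  | 0, _ => 0
  | n + 1, x => pc n x + (x >>> n) % 2

/-- Bitwise difference. -/
def df (a b : ℕ) : ℕ := a ^^^ (a &&& b)

/-- Exchange two bits. -/
def sw (p q x : ℕ) : ℕ := cond (x.testBit p == x.testBit q) x (x ^^^ (2 ^ p ||| 2 ^ q))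

theorem testBit_df (a b i : ℕ) : (df a b).testBit i = (a.testBit i && !b.testBit i) := by
  simp only [df, Nat.testBit_xor, Nat.testBit_and]
  cases a.testBit i <;> cases b.testBit i <;> rfl

theorem pc_eq_sum (n x : ℕ) : pc n x = ∑ i ∈ range n, if x.testBit i then 1 else 0 := by
  induction n with
  | zero => simp [pc]
  | succ n ih =>
    rw [pc, sum_range_succ, ih]
    congr 1
    rw [Nat.testBit_eq_decide_div_mod_eq, Nat.shiftRight_eq_div_pow]
    rcases Nat.mod_two_eq_zero_or_one (x / 2 ^ n) with h | h <;> simp [h]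

theorem testBit_sw {n : ℕ} (p q : Fin n) (x : ℕ) (i : Fin n) :
    (sw p q x).testBit (Equiv.swap p q i) = x.testBit i := by
  unfold sw
  by_cases hip : i = p
  · subst hip
    rw [Equiv.swap_apply_left]
    cases h1 : x.testBit i <;> cases h2 : x.testBit q <;>
      simp [h2, Nat.testBit_xor, Nat.testBit_or]
  by_cases hiq : i = q
  · subst hiq
    rw [Equiv.swap_apply_right]
    cases h1 : x.testBit i <;> cases h2 : x.testBit p <;>
      simp [h2, Nat.testBit_xor, Nat.testBit_or]
  rw [Equiv.swap_apply_of_ne_of_ne hip hiq]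
  have h1 : (p : ℕ) ≠ i := fun h => hip (Fin.ext h.symm)
  have h2 : (q : ℕ) ≠ i := fun h => hiq (Fin.ext h.symm)
  cases (x.testBit p == x.testBit q) <;>
    simp [Nat.testBit_xor, Nat.testBit_or, Nat.testBit_two_pow_of_ne h1,
      Nat.testBit_two_pow_of_ne h2]

variable {α : Type*} [Fintype α] {n : ℕ}

/-- The subset of `α` whose labels are the set bits of `x`. -/
def blk (e : α ≃ Fin n) (x : ℕ) : Finset α := univ.filter fun a => x.testBit (e a)

theorem mem_blk {e : α ≃ Fin n} {x : ℕ} {a : α} : a ∈ blk e x ↔ x.testBit (e a) = true := by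
  simp [blk]

theorem card_blk (e : α ≃ Fin n) (x : ℕ) : (blk e x).card = pc n x := by
  rw [pc_eq_sum, blk, card_filter, ← Fin.sum_univ_eq_sum_range
    (fun i => if x.testBit i then 1 else 0)]
  exact Equiv.sum_comp e (fun i : Fin n => if x.testBit i then 1 else 0)

theorem blk_zero (e : α ≃ Fin n) : blk e 0 = ∅ := by
  ext a; simp [mem_blk]

theorem blk_univ (e : α ≃ Fin n) : blk e (2 ^ n - 1) = univ := by
  ext a; simp [mem_blk, Nat.testBit_two_pow_sub_one]

variable [DecidableEq α]

theorem blk_and (e : α ≃ Fin n) (x y : ℕ) : blk e (x &&& y) = blk e x ∩ blk e y := by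
  ext a; simp [mem_blk]

theorem blk_or (e : α ≃ Fin n) (x y : ℕ) : blk e (x ||| y) = blk e x ∪ blk e y := by
  ext a; simp [mem_blk]

theorem blk_df (e : α ≃ Fin n) (x y : ℕ) : blk e (df x y) = blk e x \ blk e y := by
  ext a; simp [mem_blk, testBit_df]

theorem blk_two_pow (e : α ≃ Fin n) (p : Fin n) : blk e (2 ^ (p : ℕ)) = {e.symm p} := by
  ext a
  simp only [mem_blk, Nat.testBit_two_pow, decide_eq_true_eq, mem_singleton, Equiv.eq_symm_apply,
    Fin.ext_iff]
  exact eq_comm

omit [DecidableEq α] in
theorem blk_sw (e : α ≃ Fin n) (p q : Fin n) (x : ℕ) :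
    blk (e.trans (Equiv.swap p q)) (sw p q x) = blk e x := by
  ext a; simp only [mem_blk, Equiv.trans_apply, testBit_sw]

theorem exists_blk (e : α ≃ Fin n) (D : Finset α) : ∃ x, blk e x = D := by
  induction D using Finset.induction_on with
  | empty => exact ⟨0, blk_zero e⟩
  | insert a D _ ih =>
    obtain ⟨x, rfl⟩ := ih
    exact ⟨2 ^ (e a : ℕ) ||| x, by rw [blk_or, blk_two_pow, Equiv.symm_apply_apply, insert_eq]⟩

/-- Search certificates. -/
inductive Cert : Type
  | br (p C : ℕ) (l r : Cert) : Cert
  | full (c : Cert) : Cert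
  | dead (j : ℕ) : Cert
  | small : Cert
  | start (T : ℕ) (c : Cert) : Cert
  | swap (p q : ℕ) (c : Cert) : Cert
  | ref (j : ℕ) : Cert

/-- The points of `C` may be exchanged with `p`. -/
def cellOK (m p C : ℕ) (K : List ℕ) (S : ℕ) : Bool :=
  C == 2 ^ p || (Nat.ble m p && (C &&& (2 ^ m - 1)) == 0 && ((C ||| 2 ^ p) &&& S) == 0 &&
    K.all fun c => (C &&& c) == cond (c.testBit p) C 0)

/-- The known block `c` refutes the partial block `(S, E)`. -/
def deadOK (n k A c S E : ℕ) : Bool :=
  (pc n (df S c) != 0 || pc n (c &&& E) != 0) &&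
    (List.range (k + 1)).all fun x => !(A.testBit x) || Nat.blt x (pc n (S &&& c)) ||
      Nat.blt (x + pc n (df (df (2 ^ n - 1) E) c)) k || Nat.blt (pc n (df c E)) x ||
      Nat.blt (pc n (S &&& c) + k) (x + pc n S)

/-- The checker. -/
def check (n t k m A : ℕ) (tab : List (List ℕ)) : Cert → List ℕ → ℕ → ℕ → Bool
  | .br p C l r, K, S, E => Nat.blt p n && !(E.testBit p) && cellOK m p C K S &&
      check n t k m A tab l K (S ||| 2 ^ p) E && check n t k m A tab r K S (E ||| C)
  | .full c, K, S, E => pc n S == k && check n t k m A tab c (S :: K) S E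
  | .dead j, K, S, E => Nat.blt j K.length && deadOK n k A (K.getD j 0) S E
  | .small, _, _, E => Nat.blt (pc n (df (2 ^ n - 1) E)) k
  | .start T c, K, _, _ => pc n T == t && check n t k m A tab c K T 0
  | .swap p q c, K, S, E => Nat.ble m p && Nat.ble m q && Nat.blt p n && Nat.blt q n &&
      check n t k m A tab c (K.map (sw p q)) (sw p q S) (sw p q E)
  | .ref j, K, _, _ => Nat.blt j tab.length && (tab.getD j []).all fun c => K.contains c

/-- The labelling `e` agrees with `e0` on the first `m` labels. -/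
def Good (m : ℕ) (e0 e : α ≃ Fin n) : Prop := ∀ a, (e0 a : ℕ) < m → e a = e0 a

/-- Meaning of a search state. -/
def QState (m : ℕ) (B : Set (Finset α)) (e0 : α ≃ Fin n) (G : Prop) (K : List ℕ) (S E : ℕ) : Prop :=
  ∀ e, Good m e0 e → (∀ c ∈ K, blk e c ∈ B) → ∀ b ∈ B, blk e S ⊆ b → Disjoint (blk e E) b → G

omit [Fintype α] [DecidableEq α] in
theorem Good.swap {m : ℕ} {e0 e : α ≃ Fin n} (h : Good m e0 e) {p q : Fin n} (hp : m ≤ p)
    (hq : m ≤ q) : Good m e0 (e.trans (Equiv.swap p q)) := by
  intro a ha
  rw [Equiv.trans_apply, h a ha]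
  apply Equiv.swap_apply_of_ne_of_ne
  · rintro rfl; omega
  · rintro rfl; omega

theorem deadOK_sound {k A c S E : ℕ} (h : deadOK n k A c S E = true) (e : α ≃ Fin n)
    {b : Finset α} (hb : b.card = k) (hS : blk e S ⊆ b) (hE : Disjoint (blk e E) b)
    (hA : b ≠ blk e c → A.testBit (b ∩ blk e c).card = true) : False := by
  simp only [deadOK, Bool.and_eq_true, Bool.or_eq_true, bne_iff_ne, ne_eq, List.all_eq_true,
    List.mem_range, Bool.not_eq_true', Nat.blt_eq, ← card_blk e, blk_df, blk_and, blk_univ] at h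
  obtain ⟨h1, h2⟩ := h
  have hne : b ≠ blk e c := by
    rintro rfl
    rcases h1 with h1 | h1
    · exact h1 (by rw [sdiff_eq_empty_iff_subset.2 hS]; rfl)
    · exact h1 (by rw [disjoint_iff_inter_eq_empty.1 hE.symm]; rfl)
  have hx : (b ∩ blk e c).card < k + 1 := by
    have := card_le_card (inter_subset_left (s₁ := b) (s₂ := blk e c)); omega
  have h3 := h2 _ hx
  rw [hA hne] at h3
  have a1 : (blk e S ∩ blk e c).card ≤ (b ∩ blk e c).card :=
    card_le_card (inter_subset_inter_right hS)
  have a2 : (b \ blk e c).card ≤ ((univ \ blk e E) \ blk e c).card := by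
    apply card_le_card
    intro a ha
    simp only [mem_sdiff, mem_univ, true_and] at ha ⊢
    exact ⟨fun h => disjoint_left.1 hE h ha.1, ha.2⟩
  have a3 : (b ∩ blk e c).card ≤ (blk e c \ blk e E).card := by
    apply card_le_card
    intro a ha
    simp only [mem_sdiff, mem_inter] at ha ⊢
    exact ⟨ha.2, fun h => disjoint_left.1 hE h ha.1⟩
  have a4 : (blk e S \ blk e c).card ≤ (b \ blk e c).card :=
    card_le_card (sdiff_subset_sdiff hS Subset.rfl)
  have a5 := card_sdiff_add_card_inter b (blk e c)
  have a6 := card_sdiff_add_card_inter (blk e S) (blk e c)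
  simp only [Bool.true_eq_false, false_or] at h3
  omega

theorem check_sound {t k m A : ℕ} {B : Set (Finset α)} (hB : IsSteinerSystem t k B)
    (hA : ∀ b ∈ B, ∀ c ∈ B, b ≠ c → A.testBit (b ∩ c).card = true) (e0 : α ≃ Fin n) (G : Prop)
    (tab : List (List ℕ)) (htab : ∀ K ∈ tab, QState m B e0 G K 0 0) :
    ∀ (c : Cert) (K : List ℕ) (S E : ℕ), check n t k m A tab c K S E = true →
      QState m B e0 G K S E := by
  intro c
  induction c with
  | br p C l r ihl ihr =>
    intro K S E h e he hK b hb hS hE
    simp only [check, Bool.and_eq_true, Nat.blt_eq, Bool.not_eq_true'] at h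
    obtain ⟨⟨⟨⟨hp, hEp⟩, hC⟩, hl⟩, hr⟩ := h
    by_cases hd : Disjoint (blk e C) b
    · exact ihr _ _ _ hr e he hK b hb hS (by rw [blk_or]; exact disjoint_union_left.2 ⟨hE, hd⟩)
    obtain ⟨a, haC, hab⟩ := not_disjoint_iff.1 hd
    lift p to Fin n using hp
    by_cases hap : e a = p
    · refine ihl _ _ _ hl e he hK b hb ?_ hE
      rw [blk_or, blk_two_pow, union_subset_iff, singleton_subset_iff, ← hap,
        Equiv.symm_apply_apply]
      exact ⟨hS, hab⟩
    rw [mem_blk] at haC
    simp only [cellOK, Bool.or_eq_true, beq_iff_eq, Bool.and_eq_true, Nat.ble_eq,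
      List.all_eq_true] at hC
    rcases hC with hC | ⟨⟨⟨hmp, hm⟩, hCS⟩, hcell⟩
    · rw [hC, Nat.testBit_two_pow, decide_eq_true_eq] at haC
      exact absurd (Fin.ext haC.symm) hap
    have hmq : m ≤ (e a : ℕ) := by
      have := congrArg (fun x => Nat.testBit x (e a)) hm
      simpa [haC, Nat.testBit_two_pow_sub_one] using this
    have hSq : S.testBit (e a) = false := by
      have := congrArg (fun x => Nat.testBit x (e a)) hCS
      simpa [haC] using this
    have hSp : S.testBit p = false := by
      have := congrArg (fun x => Nat.testBit x p) hCS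
      simpa using this
    have hEq : E.testBit (e a) = false := by
      by_contra h
      exact disjoint_left.1 hE (mem_blk.2 (by simpa using h)) hab
    have key : ∀ x : ℕ, x.testBit p = x.testBit (e a) →
        blk (e.trans (Equiv.swap p (e a))) x = blk e x := by
      intro x hx
      rw [← blk_sw e p (e a) x]
      congr 1
      simp [sw, hx]
    refine ihl _ _ _ hl (e.trans (Equiv.swap p (e a))) (he.swap hmp hmq) ?_ b hb ?_ ?_
    · intro c hc
      rw [key]
      · exact hK c hc
      · have := congrArg (fun x => Nat.testBit x (e a)) (hcell c hc)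
        cases hcp : c.testBit p <;> simp [hcp, haC] at this <;> simp [this]
    · rw [blk_or, key S (by rw [hSp, hSq]), blk_two_pow, union_subset_iff, singleton_subset_iff]
      refine ⟨hS, ?_⟩
      simpa using hab
    · rw [key E (by rw [hEp, hEq])]
      exact hE
  | full c ih =>
    intro K S E h e he hK b hb hS hE
    simp only [check, Bool.and_eq_true, beq_iff_eq] at h
    refine ih _ _ _ h.2 e he ?_ b hb hS hE
    intro c hc
    rcases List.mem_cons.1 hc with rfl | hc
    · have : blk e c = b := eq_of_subset_of_card_le hS (by rw [card_blk, h.1, hB.1 b hb])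
      exact this ▸ hb
    · exact hK c hc
  | dead j =>
    intro K S E h e he hK b hb hS hE
    simp only [check, Bool.and_eq_true, Nat.blt_eq] at h
    have hj : K.getD j 0 ∈ K := by
      rw [List.getD_eq_getElem _ _ h.1]; exact List.getElem_mem _
    exact (deadOK_sound h.2 e (hB.1 b hb) hS hE (hA b hb _ (hK _ hj))).elim
  | small =>
    intro K S E h e he hK b hb hS hE
    simp only [check, Nat.blt_eq, ← card_blk e, blk_df, blk_univ] at h
    have : b.card ≤ (univ \ blk e E).card := by
      apply card_le_card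
      intro a ha
      simp only [mem_sdiff, mem_univ, true_and]
      exact fun h => disjoint_left.1 hE h ha
    have := hB.1 b hb
    omega
  | start T c ih =>
    intro K S E h e he hK b hb hS hE
    simp only [check, Bool.and_eq_true, beq_iff_eq] at h
    obtain ⟨b', hb', hT⟩ := exists_block hB (s := blk e T) (by rw [card_blk, h.1])
    exact ih _ _ _ h.2 e he hK b' hb' hT (by simp [blk_zero])
  | swap p q c ih =>
    intro K S E h e he hK b hb hS hE
    simp only [check, Bool.and_eq_true, Nat.ble_eq, Nat.blt_eq] at h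
    obtain ⟨⟨⟨⟨hmp, hmq⟩, hp⟩, hq⟩, h⟩ := h
    lift p to Fin n using hp
    lift q to Fin n using hq
    refine ih _ _ _ h (e.trans (Equiv.swap p q)) (he.swap hmp hmq) ?_ b hb ?_ ?_
    · intro c hc
      obtain ⟨c', hc', rfl⟩ := List.mem_map.1 hc
      rw [blk_sw]; exact hK c' hc'
    · rw [blk_sw]; exact hS
    · rw [blk_sw]; exact hE
  | ref j =>
    intro K S E h e he hK b hb hS hE
    simp only [check, Bool.and_eq_true, Nat.blt_eq, List.all_eq_true, List.contains_iff_mem] at h
    have hj : tab.getD j [] ∈ tab := by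
      rw [List.getD_eq_getElem _ _ h.1]; exact List.getElem_mem _
    exact htab _ hj e he (fun c hc => hK c (h.2 c hc)) b hb (by simp [blk_zero])
      (by simp [blk_zero])

/-- Check a list of table entries in order; each may refer to the earlier ones. -/
def checkAll (n t k m A : ℕ) : List (List ℕ × Cert) → List (List ℕ) → Cert → ℕ → ℕ → Bool
  | [], tab, c, S, E => check n t k m A tab c [] S E
  | x :: L, tab, c, S, E => check n t k m A tab x.2 x.1 0 0 &&
      checkAll n t k m A L (x.1 :: tab) c S E

theorem checkAll_sound {t k m A : ℕ} {B : Set (Finset α)} (hB : IsSteinerSystem t k B)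
    (hA : ∀ b ∈ B, ∀ c ∈ B, b ≠ c → A.testBit (b ∩ c).card = true) (e0 : α ≃ Fin n) (G : Prop)
    (c : Cert) (S E : ℕ) : ∀ (L : List (List ℕ × Cert)) (tab : List (List ℕ)),
      (∀ K ∈ tab, QState m B e0 G K 0 0) → checkAll n t k m A L tab c S E = true →
      QState m B e0 G [] S E := by
  intro L
  induction L with
  | nil => intro tab htab h; exact check_sound hB hA e0 G tab htab c _ _ _ h
  | cons x L ih =>
    intro tab htab h
    simp only [checkAll, Bool.and_eq_true] at h
    refine ih _ ?_ h.2
    intro K hK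
    rcases List.mem_cons.1 hK with rfl | hK
    · exact check_sound hB hA e0 G tab htab _ _ _ _ h.1
    · exact htab K hK

/-- The main consequence of a successful check. -/
theorem exists_labelling {t k m A : ℕ} {B : Set (Finset α)} (hB : IsSteinerSystem t k B)
    (hA : ∀ b ∈ B, ∀ c ∈ B, b ≠ c → A.testBit (b ∩ c).card = true) {L : List (List ℕ × Cert)}
    {Tg : List ℕ} {c : Cert} {S E : ℕ} (h : checkAll n t k m A L [Tg] c S E = true)
    (e0 : α ≃ Fin n) {b : Finset α} (hb : b ∈ B) (hS : blk e0 S ⊆ b) (hE : Disjoint (blk e0 E) b) :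
    ∃ e, Good m e0 e ∧ ∀ c ∈ Tg, blk e c ∈ B := by
  refine checkAll_sound hB hA e0 _ c S E L [Tg] ?_ h e0 (fun _ _ => rfl) (by simp) b hb hS hE
  intro K hK e he hKB _ _ _ _
  rw [List.mem_singleton] at hK
  exact ⟨e, he, hK ▸ hKB⟩

end Cfsg.Lib.Steiner
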