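import Mathlib
import Cfsg.Agent.Lib.Steiner.Search

/-! A certificate checker showing that an automorphism fixing a frame is trivial, and a
checker for the minimum distance of a binary code given by parity checks. -/

set_option autoImplicit false

namespace Cfsg.Lib.Steiner

open Finset

/-- Rigidity certificates. -/
inductive RCert : Type
  | blk (i j X : ℕ) (c : RCert) : RCert
  | br (p M : ℕ) (l r : RCert) : RCert
  | inj (p v : ℕ) (c : RCert) : RCert
  | dead (p : ℕ) : RCert
  | done : RCert

/-- Restrict every entry of the list of allowed images. -/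
def restr (n : ℕ) (al : List ℕ) (f : ℕ → ℕ) : List ℕ :=
  (List.range n).map fun q => al.getD q 0 &&& f q

/-- The rigidity checker. -/
def rcheck (n t : ℕ) (Tg : List ℕ) : RCert → List ℕ → Bool
  | .blk i j X c, al => Nat.blt i Tg.length && Nat.blt j Tg.length && Nat.ble t (pc n X) &&
      (X &&& Tg.getD i 0) == X &&
      ((List.range n).all fun q => !(X.testBit q) || (al.getD q 0 &&& Tg.getD j 0) == al.getD q 0) &&
      rcheck n t Tg c (restr n al fun q =>
        cond ((Tg.getD i 0).testBit q) (Tg.getD j 0) (df (2 ^ n - 1) (Tg.getD j 0)))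
  | .br p M l r, al => rcheck n t Tg l (restr n al fun q => cond (q == p) M (2 ^ n - 1)) &&
      rcheck n t Tg r (restr n al fun q => cond (q == p) (df (2 ^ n - 1) M) (2 ^ n - 1))
  | .inj p v c, al => Nat.blt p n && (al.getD p 0 &&& 2 ^ v) == al.getD p 0 &&
      rcheck n t Tg c (restr n al fun q => cond (q == p) (2 ^ n - 1) (df (2 ^ n - 1) (2 ^ v)))
  | .dead p, al => Nat.blt p n && al.getD p 0 == 0
  | .done, al => (List.range n).all fun q => (al.getD q 0 &&& 2 ^ q) == al.getD q 0

variable {α : Type*} [Fintype α] [DecidableEq α] {n : ℕ}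

theorem getD_restr {al : List ℕ} {f : ℕ → ℕ} {q : ℕ} (hq : q < n) :
    (restr n al f).getD q 0 = al.getD q 0 &&& f q := by
  simp [restr, List.getD_eq_getElem?_getD, hq]

theorem testBit_of_and_eq {x y i : ℕ} (h : x &&& y = x) (hx : x.testBit i = true) :
    y.testBit i = true := by
  have := congrArg (fun z => Nat.testBit z i) h
  simpa [hx] using this

theorem rcheck_sound {t k : ℕ} {B : Set (Finset α)} (hB : IsSteinerSystem t k B) (e : α ≃ Fin n)
    {Tg : List ℕ} (hT : ∀ c ∈ Tg, blk e c ∈ B) (g : Equiv.Perm α)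
    (hg : ∀ b ∈ B, b.image g ∈ B) :
    ∀ (c : RCert) (al : List ℕ), rcheck n t Tg c al = true →
      (∀ a, (al.getD (e a) 0).testBit (e (g a)) = true) → g = 1 := by
  intro c
  have hU : ∀ a : α, (2 ^ n - 1).testBit (e a) = true := fun a => by
    simp [Nat.testBit_two_pow_sub_one]
  induction c with
  | blk i j X c ih =>
    intro al h hal
    simp only [rcheck, Bool.and_eq_true, Nat.blt_eq, Nat.ble_eq, beq_iff_eq, List.all_eq_true,
      List.mem_range, Bool.or_eq_true, Bool.not_eq_true'] at h
    obtain ⟨⟨⟨⟨⟨hi, hj⟩, ht⟩, hX⟩, hq⟩, h⟩ := h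
    have hi' : Tg.getD i 0 ∈ Tg := by
      rw [List.getD_eq_getElem _ _ hi]; exact List.getElem_mem _
    have hj' : Tg.getD j 0 ∈ Tg := by
      rw [List.getD_eq_getElem _ _ hj]; exact List.getElem_mem _
    have key : (blk e (Tg.getD i 0)).image g = blk e (Tg.getD j 0) := by
      apply block_eq_of_subset hB (s := (blk e X).image g) _ (hg _ (hT _ hi')) (hT _ hj')
      · apply image_subset_image
        intro a ha
        rw [mem_blk] at ha ⊢
        exact testBit_of_and_eq hX ha
      · intro a ha
        obtain ⟨a, ha', rfl⟩ := mem_image.1 ha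
        rw [mem_blk] at ha' ⊢
        rcases hq _ (e a).2 with h1 | h1
        · rw [h1] at ha'; cases ha'
        · exact testBit_of_and_eq h1 (hal a)
      · rw [card_image_of_injective _ g.injective, card_blk]; exact ht
    refine ih _ h fun a => ?_
    rw [getD_restr (e a).2, Nat.testBit_and, hal a, Bool.true_and]
    have h2 : g a ∈ blk e (Tg.getD j 0) ↔ a ∈ blk e (Tg.getD i 0) := by
      rw [← key]; exact g.injective.mem_finset_image
    rw [mem_blk, mem_blk] at h2
    cases h3 : (Tg.getD i 0).testBit (e a)
    · rw [h3] at h2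
      rw [cond_false, testBit_df, hU, Bool.true_and]
      simpa using h2
    · rw [cond_true]; exact h2.2 h3
  | br p M l r ihl ihr =>
    intro al h hal
    simp only [rcheck, Bool.and_eq_true] at h
    by_cases hM : ∀ a, (e a : ℕ) = p → M.testBit (e (g a)) = true
    · refine ihl _ h.1 fun a => ?_
      rw [getD_restr (e a).2, Nat.testBit_and, hal a, Bool.true_and]
      by_cases ha : (e a : ℕ) = p
      · simp [ha, hM a ha]
      · simp [beq_false_of_ne ha, hU]
    · refine ihr _ h.2 fun a => ?_
      rw [getD_restr (e a).2, Nat.testBit_and, hal a, Bool.true_and]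
      by_cases ha : (e a : ℕ) = p
      · push Not at hM
        obtain ⟨a', ha', hM⟩ := hM
        have : a' = a := e.injective (Fin.ext (ha'.trans ha.symm))
        subst this
        simp [ha, testBit_df, hU, hM]
      · simp [beq_false_of_ne ha, hU]
  | inj p v c ih =>
    intro al h hal
    simp only [rcheck, Bool.and_eq_true, Nat.blt_eq, beq_iff_eq] at h
    obtain ⟨⟨hp, hv⟩, h⟩ := h
    refine ih _ h fun a => ?_
    rw [getD_restr (e a).2, Nat.testBit_and, hal a, Bool.true_and]
    by_cases ha : (e a : ℕ) = p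
    · simp [ha, hU]
    · have h1 := hal (e.symm ⟨p, hp⟩)
      rw [Equiv.apply_symm_apply] at h1
      have h2 := testBit_of_and_eq hv h1
      rw [Nat.testBit_two_pow, decide_eq_true_eq] at h2
      have h3 : v ≠ e (g a) := by
        intro h3
        have : g (e.symm ⟨p, hp⟩) = g a := e.injective (Fin.ext (h2.symm.trans h3))
        apply ha
        rw [← g.injective this, Equiv.apply_symm_apply]
      simp [beq_false_of_ne ha, testBit_df, hU, Nat.testBit_two_pow_of_ne h3]
  | dead p =>
    intro al h hal
    simp only [rcheck, Bool.and_eq_true, Nat.blt_eq, beq_iff_eq] at h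
    obtain ⟨hp, h0⟩ := h
    have h1 := hal (e.symm ⟨p, hp⟩)
    rw [Equiv.apply_symm_apply, h0] at h1
    simp at h1
  | done =>
    intro al h hal
    simp only [rcheck, List.all_eq_true, List.mem_range, beq_iff_eq] at h
    ext a
    have h2 := testBit_of_and_eq (h _ (e a).2) (hal a)
    rw [Nat.testBit_two_pow, decide_eq_true_eq] at h2
    exact (e.injective (Fin.ext h2)).symm

/-- Initial list of allowed images. -/
def al0 (n m : ℕ) : List ℕ := (List.range n).map fun q => cond (Nat.blt q m) (2 ^ q) (2 ^ n - 1)

theorem rigid_of_rcheck {t k m : ℕ} {B : Set (Finset α)} (hB : IsSteinerSystem t k B)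
    (e : α ≃ Fin n) {Tg : List ℕ} (hT : ∀ c ∈ Tg, blk e c ∈ B) {c : RCert}
    (h : rcheck n t Tg c (al0 n m) = true) (g : Equiv.Perm α) (hg : ∀ b ∈ B, b.image g ∈ B)
    (hfix : ∀ a, (e a : ℕ) < m → g a = a) : g = 1 := by
  refine rcheck_sound hB e hT g hg c _ h fun a => ?_
  have : (al0 n m).getD (e a) 0 = cond (Nat.blt (e a) m) (2 ^ (e a : ℕ)) (2 ^ n - 1) := by
    simp [al0, List.getD_eq_getElem?_getD]
  rw [this]
  by_cases ha : (e a : ℕ) < m
  · have : Nat.blt (e a) m = true := by rw [Nat.blt_eq]; exact ha
    rw [hfix a ha, this]; simp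
  · have : Nat.blt (e a) m = false := by
      rw [← Bool.not_eq_true, Nat.blt_eq]; exact ha
    rw [this]; simp [Nat.testBit_two_pow_sub_one]

/-! ### Minimum distance -/

/-- Syndrome of the lowest `p` bits of `x`. -/
def syn (col : ℕ → ℕ) (x : ℕ) : ℕ → ℕ
  | 0 => 0
  | p + 1 => cond (x.testBit p) (syn col x p ^^^ col p) (syn col x p)

/-- No set of at most `d` of the first `p` columns has sum `s`. -/
def avoid (col : ℕ → ℕ) : ℕ → ℕ → ℕ → Bool :=
  Nat.rec (fun _ s => !(Nat.beq s 0)) fun p ih d s =>
    Nat.casesOn d (!(Nat.beq s 0)) fun d' => ih (d' + 1) s && ih d' (s ^^^ col p)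

/-- No nonempty set of at most `d + 1` of the first `p` columns has sum zero. -/
def avoidAll (col : ℕ → ℕ) (d : ℕ) : ℕ → Bool
  | 0 => true
  | p + 1 => avoid col p d (col p) && avoidAll col d p

theorem pc_succ (p x : ℕ) : pc (p + 1) x = pc p x + if x.testBit p then 1 else 0 := by
  rw [pc_eq_sum, pc_eq_sum, sum_range_succ]

theorem syn_eq_zero_of_pc (col : ℕ → ℕ) (x : ℕ) : ∀ p, pc p x = 0 → syn col x p = 0 := by
  intro p
  induction p with
  | zero => intro _; rfl
  | succ p ih =>
    intro h
    rw [pc_succ] at h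
    cases hx : x.testBit p
    · simp only [syn, hx, cond_false]; exact ih (by omega)
    · simp [hx] at h

theorem avoid_sound (col : ℕ → ℕ) (x : ℕ) :
    ∀ p d s, avoid col p d s = true → pc p x ≤ d → syn col x p ≠ s := by
  intro p
  induction p with
  | zero =>
    intro d s h _ hs
    have h' : (!(Nat.beq s 0)) = true := h
    rw [← hs] at h'
    simp [syn] at h'
  | succ p ih =>
    intro d s h hd hs
    cases d with
    | zero =>
      have h' : (!(Nat.beq s 0)) = true := h
      rw [← hs, syn_eq_zero_of_pc col x _ (by omega)] at h'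
      simp at h'
    | succ d =>
      have h' : (avoid col p (d + 1) s && avoid col p d (s ^^^ col p)) = true := h
      rw [Bool.and_eq_true] at h'
      rw [pc_succ] at hd
      cases hx : x.testBit p
      · simp only [syn, hx, cond_false] at hs
        exact ih _ _ h'.1 (by omega) hs
      · simp only [syn, hx, cond_true] at hs
        refine ih _ _ h'.2 (by simp [hx] at hd; omega) ?_
        rw [← hs, Nat.xor_assoc, Nat.xor_self, Nat.xor_zero]

theorem avoidAll_sound (col : ℕ → ℕ) (d x : ℕ) :
    ∀ p, avoidAll col d p = true → pc p x ≤ d + 1 → syn col x p = 0 → pc p x = 0 := by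
  intro p
  induction p with
  | zero => intro _ _ _; rfl
  | succ p ih =>
    intro h hd hs
    simp only [avoidAll, Bool.and_eq_true] at h
    rw [pc_succ] at hd ⊢
    cases hx : x.testBit p
    · simp only [syn, hx, cond_false] at hs
      simpa using ih h.2 (by omega) hs
    · simp only [syn, hx, cond_true] at hs
      refine (avoid_sound col x _ _ _ h.1 (by simp [hx] at hd; omega) ?_).elim
      exact Nat.xor_eq_zero_iff.1 hs

theorem testBit_syn (col : ℕ → ℕ) (x r j : ℕ) :
    ∀ p, (∀ q < p, (col q).testBit j = r.testBit q) →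
      (syn col x p).testBit j = decide (pc p (x &&& r) % 2 = 1) := by
  intro p
  induction p with
  | zero => intro _; simp [syn, pc]
  | succ p ih =>
    intro h
    have ih' := ih fun q hq => h q (by omega)
    rw [pc_succ, Nat.testBit_and]
    cases hx : x.testBit p
    · simp [syn, hx, ih']
    · simp only [syn, hx, cond_true, Nat.testBit_xor, ih', h p (by omega), Bool.true_and]
      cases r.testBit p
      · simp
      · rcases Nat.mod_two_eq_zero_or_one (pc p (x &&& r)) with h | h <;> simp [h] <;> omega

theorem syn_lt (col : ℕ → ℕ) (x N : ℕ) :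
    ∀ p, (∀ q < p, col q < 2 ^ N) → syn col x p < 2 ^ N := by
  intro p
  induction p with
  | zero => intro _; simp [syn]
  | succ p ih =>
    intro h
    have ih' := ih fun q hq => h q (by omega)
    cases hx : x.testBit p
    · simpa [syn, hx] using ih'
    · simp only [syn, hx, cond_true]
      exact Nat.xor_lt_two_pow ih' (h p (by omega))

/-- The columns `col` describe the rows `R`. -/
def colsOK (n : ℕ) (R : List ℕ) (col : ℕ → ℕ) : Bool :=
  (List.range n).all fun q => Nat.blt (col q) (2 ^ R.length) &&
    (List.range R.length).all fun j => (col q).testBit j == (R.getD j 0).testBit q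

theorem min_dist {R : List ℕ} {col : ℕ → ℕ} {d : ℕ} (h1 : colsOK n R col = true)
    (h2 : avoidAll col d n = true) (e : α ≃ Fin n) {D : Finset α} (hD : D.card ≤ d + 1)
    (hR : ∀ r ∈ R, (D ∩ blk e r).card % 2 = 0) : D = ∅ := by
  obtain ⟨x, rfl⟩ := exists_blk e D
  simp only [colsOK, List.all_eq_true, List.mem_range, Bool.and_eq_true, Nat.blt_eq,
    beq_iff_eq] at h1
  rw [← card_eq_zero, card_blk]
  rw [card_blk] at hD
  refine avoidAll_sound col d x n h2 hD ?_
  apply Nat.eq_of_testBit_eq
  intro j
  rw [Nat.zero_testBit]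
  by_cases hj : j < R.length
  · rw [testBit_syn col x (R.getD j 0) j n fun q hq => (h1 q hq).2 j hj]
    have hj' : R.getD j 0 ∈ R := by
      rw [List.getD_eq_getElem _ _ hj]; exact List.getElem_mem _
    have := hR _ hj'
    rw [← blk_and, card_blk] at this
    rw [this]; rfl
  · apply Nat.testBit_lt_two_pow
    exact lt_of_lt_of_le (syn_lt col x _ n fun q hq => (h1 q hq).1)
      (Nat.pow_le_pow_right (by norm_num) (not_lt.1 hj))

end Cfsg.Lib.Steiner
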