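import Mathlib
import Cfsg.Agent.Lib.Steiner.Rigid

/-! Generated certificates for the Steiner system on 24 points. -/

set_option autoImplicit false
set_option maxRecDepth 100000

namespace Cfsg.Lib.Steiner

/-- Search certificate, step 11. -/
def c24_11 : Cert :=
  (.start 33836 (.br 0 1 (.dead 0) (.br 4 16 (.dead 9) (.br 6 64 (.dead 0) (.br 8 256 (.dead 1)
  (.br 9 512 (.dead 9) (.br 11 2048 (.dead 9) (.br 14 16384 (.dead 4) (.br 16 65536 (.dead 0)
  (.br 17 131072 (.dead 1) (.br 19 524288 (.dead 4) (.br 20 1048576 (.dead 0) (.br 21 2097152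
  (.dead 1) (.br 7 128 (.dead 3) (.br 1 2 (.br 12 4096 (.dead 6) (.br 13 8192 (.br 18 262144
  (.dead 2) (.br 22 4194304 (.dead 2) (.br 23 8388608 (.full (.ref 0)) .small))) (.dead 8)))
  (.dead 10))))))))))))))))

/-- Search certificate, step 10. -/
def c24_10 : Cert :=
  (.start 109 (.br 1 2 (.dead 7) (.br 4 16 (.dead 8) (.br 7 128 (.dead 9) (.br 8 256 (.dead 9)
  (.br 9 512 (.dead 7) (.br 10 1024 (.dead 8) (.br 11 2048 (.dead 8) (.br 12 4096 (.dead 7) (.br
  13 8192 (.dead 7) (.br 16 65536 (.br 14 16384 (.dead 4) (.br 15 32768 (.br 17 131072 (.dead 0)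
  (.br 18 262144 (.dead 2) (.br 19 524288 (.dead 2) (.br 21 2097152 (.dead 0) (.br 20 1048576
  (.full c24_11) (.dead 2)))))) (.dead 6))) (.dead 5))))))))))))

/-- Search certificate, step 9. -/
def c24_9 : Cert :=
  (.start 1324 (.br 0 1 (.dead 8) (.br 1 2 (.dead 8) (.br 4 16 (.dead 7) (.br 6 64 (.dead 7) (.br
  7 128 (.dead 8) (.br 9 512 (.dead 7) (.br 11 2048 (.dead 7) (.br 12 4096 (.br 13 8192 (.br 14
  16384 (.dead 3) (.br 15 32768 (.dead 0) (.dead 5))) (.dead 6)) (.br 13 8192 (.dead 6) (.br 16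
  65536 (.br 20 1048576 (.br 14 16384 (.dead 0) (.br 15 32768 (.dead 3) (.br 17 131072 (.dead 0)
  (.br 18 262144 (.dead 2) (.dead 3))))) (.br 21 2097152 (.br 14 16384 (.dead 5) (.br 15 32768
  (.dead 0) (.br 18 262144 (.dead 0) (.br 17 131072 (.full c24_10) (.dead 3))))) (.dead 1)))
  (.dead 4))))))))))))

/-- Search certificate, step 8. -/
def c24_8 : Cert :=
  (.start 557380 (.br 5 32 (.dead 1) (.br 10 1024 (.dead 1) (.br 14 16384 (.dead 1) (.br 17
  131072 (.dead 1) (.br 0 1 (.br 7 128 (.br 1 2 (.dead 2) (.br 3 8 (.dead 2) (.br 4 16 (.dead 0)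
  (.br 9 512 (.dead 0) (.br 11 2048 (.dead 2) (.br 12 4096 (.dead 2) (.br 13 8192 (.dead 2)
  (.dead 5)))))))) (.br 16 65536 (.br 18 262144 (.dead 3) (.dead 2)) (.br 18 262144 (.dead 2)
  (.br 1 2 (.br 12 4096 (.dead 0) (.dead 3)) (.br 12 4096 (.dead 3) (.br 3 8 (.br 4 16 (.dead 7)
  (.dead 4)) (.br 4 16 (.dead 4) (.dead 7)))))))) (.br 7 128 (.br 16 65536 (.br 18 262144 (.dead
  0) (.dead 2)) (.br 18 262144 (.dead 2) (.br 1 2 (.br 3 8 (.dead 6) (.br 4 16 (.dead 0) (.br 12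
  4096 (.dead 3) (.dead 4)))) (.br 12 4096 (.br 3 8 (.dead 6) (.br 4 16 (.dead 0) (.dead 4)))
  (.dead 3))))) (.br 16 65536 (.br 18 262144 (.dead 2) (.br 1 2 (.br 3 8 (.dead 6) (.br 4 16
  (.dead 0) (.dead 7))) (.br 12 4096 (.br 3 8 (.dead 6) (.br 4 16 (.dead 0) (.dead 4))) (.dead
  3)))) (.br 18 262144 (.br 1 2 (.br 12 4096 (.dead 0) (.dead 3)) (.br 12 4096 (.dead 3) (.br 3 8
  (.br 4 16 (.dead 5) (.dead 4)) (.br 4 16 (.dead 4) (.br 9 512 (.br 11 2048 (.dead 5) (.dead 6))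
  (.br 11 2048 (.dead 6) (.br 13 8192 (.dead 5) (.br 20 3145728 (.br 21 2097152 (.dead 0) (.br 22
  12582912 (.full c24_9) .small)) (.dead 0))))))))) (.dead 2))))))))))

/-- Search certificate, step 7. -/
def c24_7 : Cert :=
  (.start 692 (.br 0 1 (.dead 6) (.br 1 2 (.dead 6) (.br 3 8 (.dead 5) (.br 6 64 (.dead 5) (.br 8
  256 (.dead 6) (.br 10 1024 (.dead 5) (.br 11 2048 (.dead 5) (.br 12 4096 (.br 13 8192 (.br 14
  16384 (.dead 0) (.br 15 32768 (.dead 0) (.dead 3))) (.dead 4)) (.br 13 8192 (.dead 4) (.br 16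
  65536 (.br 14 16384 (.dead 1) (.br 15 32768 (.dead 3) (.br 17 131072 (.dead 1) (.br 18 262144
  (.dead 1) (.br 19 524288 (.dead 0) (.br 20 15728640 (.br 21 14680064 (.full c24_8) .small)
  .small)))))) (.dead 2))))))))))))

/-- Search certificate, step 6. -/
def c24_6 : Cert :=
  (.start 33892 (.br 1 2 (.dead 1) (.br 3 8 (.dead 4) (.br 4 16 (.dead 4) (.br 7 128 (.dead 1)
  (.br 9 512 (.dead 4) (.br 11 2048 (.dead 4) (.br 12 4096 (.dead 1) (.br 14 16384 (.br 16 65536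
  (.dead 1) (.br 0 1 (.br 8 256 (.dead 3) (.dead 5)) (.br 8 256 (.dead 5) (.br 13 8192 (.dead 3)
  (.br 17 393216 (.br 18 262144 (.dead 0) (.br 19 16252928 (.full c24_7) .small)) (.dead 0))))))
  (.dead 2))))))))))

/-- Search certificate, step 5. -/
def c24_5 : Cert :=
  (.start 65701 (.br 1 2 (.dead 0) (.br 3 8 (.dead 4) (.br 4 16 (.dead 4) (.br 6 64 (.dead 0)
  (.br 8 256 (.dead 4) (.br 10 1024 (.dead 0) (.br 12 4096 (.dead 0) (.br 14 49152 (.br 15 32768
  (.dead 1) (.br 9 512 (.br 11 2048 (.dead 2) (.dead 3)) (.br 11 2048 (.dead 3) (.br 13 8192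
  (.dead 2) (.br 17 16646144 (.br 18 16515072 (.full c24_6) .small) .small))))) (.dead
  1))))))))))

/-- Search certificate, step 4. -/
def c24_4 : Cert :=
  (.start 4198 (.br 0 1 (.dead 1) (.br 3 8 (.dead 0) (.br 4 16 (.dead 0) (.br 7 384 (.br 8 256
  (.dead 3) (.br 9 512 (.dead 1) (.br 10 3072 (.br 11 2048 (.dead 2) (.br 13 8192 (.dead 1) (.br
  14 49152 (.dead 0) (.br 16 16711680 (.full c24_5) .small)))) (.dead 2)))) (.dead 3))))))

/-- Search certificate, step 3. -/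
def c24_3 : Cert :=
  (.start 122 (.br 0 1 (.dead 2) (.br 2 4 (.dead 1) (.br 7 384 (.dead 2) (.br 9 512 (.dead 1)
  (.br 10 3072 (.dead 1) (.br 12 12288 (.br 13 8192 (.dead 0) (.br 14 16760832 (.br 15 16744448
  (.full c24_4) .small) .small)) (.dead 0))))))))

/-- Search certificate, step 2. -/
def c24_2 : Cert :=
  (.start 79 (.br 4 16 (.dead 1) (.br 5 32 (.dead 1) (.br 7 384 (.dead 1) (.br 9 3584 (.br 10
  3072 (.dead 0) (.br 12 16773120 (.br 13 16769024 (.full c24_3) .small) .small)) (.dead 0))))))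

/-- Search certificate, step 1. -/
def c24_1 : Cert :=
  (.start 124 (.br 0 1 (.dead 0) (.br 1 2 (.dead 0) (.br 7 384 (.dead 0) (.br 9 16776704 (.br 10
  16776192 (.br 11 16775168 (.full c24_2) .small) .small) .small)))))

/-- Search certificate, step 0. -/
def c24_0 : Cert :=
  (.br 7 16777088 (.br 8 16776960 (.full c24_1) .small) .small)

/-- The blocks found by the search. -/
def tg24 : List ℕ :=
  [8430638, 1146989, 2295084, 6062404, 3211956, 705636, 475301, 70886, 53370, 12879, 3708, 447]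

theorem check24 : checkAll 24 5 8 7 21
  []
  [tg24] c24_0 63 64 = true := by
  decide +kernel

/-- Rigidity certificate. -/
def rc24 : RCert :=
  (.inj 0 0 (.inj 1 1 (.inj 2 2 (.inj 3 3 (.inj 4 4 (.inj 5 5 (.inj 6 6 (.blk 1 1 109 (.blk 9 9
  79 (.blk 10 10 124 (.blk 11 11 31 (.blk 8 8 122 (.blk 5 5 49252 (.blk 4 4 66100 (.blk 6 6 16549
  (.blk 0 0 1070 .done))))))))))))))))

theorem rcheck24 : rcheck 24 5 tg24 rc24 (al0 24 7) = true := by
  decide +kernel

/-- Columns of the parity check matrix. -/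
def col24 (p : ℕ) : ℕ :=
  (121654092748932922781100535761184419143766130723058767159426890876683076316698253890 >>> (12 * p)) % 4096

theorem colsOK24 : colsOK 24 tg24 col24 = true := by
  decide +kernel

theorem avoidAll24 : avoidAll col24 5 24 = true := by
  decide +kernel

end Cfsg.Lib.Steiner
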