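import Mathlib
import Cfsg.Agent.Lib.Steiner.Rigid

/-! Generic consequences of strong uniqueness: isomorphisms, transitivity, group orders. -/

set_option autoImplicit false

namespace Cfsg.Lib.Steiner

open Finset MulAction
open scoped Pointwise

section iso
variable {α β : Type*} [Fintype α] [DecidableEq α] [Fintype β] [DecidableEq β] {n : ℕ}

omit [DecidableEq α] in
theorem image_blk (e : α ≃ Fin n) (e' : β ≃ Fin n) (x : ℕ) :
    (blk e x).image (e.trans e'.symm) = blk e' x := by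
  ext a
  simp only [mem_image, mem_blk, Equiv.trans_apply]
  constructor
  · rintro ⟨b, hb, rfl⟩
    simpa using hb
  · intro h
    exact ⟨e.symm (e' a), by simpa using h, by simp⟩

theorem image_eq_of_char {B : Set (Finset α)} {B' : Set (Finset β)} {P : ℕ → Prop}
    {e : α ≃ Fin n} {e' : β ≃ Fin n} (h : ∀ x, blk e x ∈ B ↔ P x) (h' : ∀ x, blk e' x ∈ B' ↔ P x) :
    (fun b => b.image (e.trans e'.symm)) '' B = B' := by
  ext b'
  obtain ⟨x, rfl⟩ := exists_blk e' b'
  constructor
  · rintro ⟨b, hb, hb'⟩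
    obtain ⟨y, rfl⟩ := exists_blk e b
    rw [← hb']
    simp only [image_blk]
    rw [h', ← h]; exact hb
  · intro hx
    exact ⟨blk e x, by rw [h, ← h']; exact hx, image_blk e e' x⟩

omit [Fintype α] in
theorem mem_aut_iff {B : Set (Finset α)} {g : Equiv.Perm α} :
    g ∈ setSystemAut B ↔ (fun b => b.image g) '' B = B := Iff.rfl

omit [Fintype α] in
theorem image_mem_of_mem_aut {B : Set (Finset α)} {g : Equiv.Perm α} (hg : g ∈ setSystemAut B)
    {b : Finset α} (hb : b ∈ B) : b.image g ∈ B := by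
  rw [mem_aut_iff] at hg
  rw [← hg]; exact ⟨b, hb, rfl⟩

theorem mem_aut_of_char {B : Set (Finset α)} {P : ℕ → Prop}
    {e e' : α ≃ Fin n} (h : ∀ x, blk e x ∈ B ↔ P x) (h' : ∀ x, blk e' x ∈ B ↔ P x) :
    (e.trans e'.symm : Equiv.Perm α) ∈ setSystemAut B :=
  mem_aut_iff.2 (image_eq_of_char h h')

theorem exists_equiv_frame (hα : Fintype.card α = n) {m : ℕ} (hm : m ≤ n) (f : Fin m ↪ α) :
    ∃ e0 : α ≃ Fin n, ∀ i, (e0 (f i) : ℕ) = i := by
  let e1 : α ≃ Fin n := Fintype.equivFinOfCardEq hα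
  obtain ⟨g, hg⟩ := Equiv.Perm.exists_extending_pair (f := fun i => e1 (f i))
    (g := Fin.castLE hm) (e1.injective.comp f.injective) (Fin.castLE_injective hm)
  exact ⟨e1.trans g, fun i => by simp [hg i]⟩

omit [Fintype α] [DecidableEq α] in
theorem Good.frame {m : ℕ} {f : Fin m ↪ α} {e0 e : α ≃ Fin n} (h0 : ∀ i, (e0 (f i) : ℕ) = i)
    (h : Good m e0 e) (i : Fin m) : (e (f i) : ℕ) = i := by
  rw [h _ (by rw [h0]; exact i.2), h0]

omit [Fintype α] [DecidableEq α] in
theorem eq_frame_of_lt {m : ℕ} {f : Fin m ↪ α} {e : α ≃ Fin n} (h0 : ∀ i, (e (f i) : ℕ) = i)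
    {a : α} (ha : (e a : ℕ) < m) : a = f ⟨e a, ha⟩ :=
  e.injective (Fin.ext (by rw [h0]))

/-- Labelling for a frame made of `s` points in a block and one point off it. -/
theorem exists_labelling_frame {t k s A : ℕ} {B : Set (Finset α)} (hα : Fintype.card α = n)
    (hs : s + 1 ≤ n) (hB : IsSteinerSystem t k B)
    (hA : ∀ b ∈ B, ∀ c ∈ B, b ≠ c → A.testBit (b ∩ c).card = true) {L : List (List ℕ × Cert)}
    {Tg : List ℕ} {c : Cert} (h : checkAll n t k (s + 1) A L [Tg] c (2 ^ s - 1) (2 ^ s) = true)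
    (x : Fin s ↪ α) {b : Finset α} (hb : b ∈ B) (hx : ∀ i, x i ∈ b) {z : α} (hz : z ∉ b) :
    ∃ e : α ≃ Fin n, (∀ i, (e (x i) : ℕ) = i) ∧ (e z : ℕ) = s ∧ ∀ c ∈ Tg, blk e c ∈ B := by
  have hzx : z ∉ Set.range x := by
    rintro ⟨i, rfl⟩; exact hz (hx i)
  obtain ⟨e0, h0⟩ := exists_equiv_frame hα hs (Fin.Embedding.snoc x hzx)
  have hx0 : ∀ i, (e0 (x i) : ℕ) = i := fun i => by
    have := h0 i.castSucc
    rwa [Fin.Embedding.snoc_castSucc] at this
  have hz0 : (e0 z : ℕ) = s := by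
    have := h0 (Fin.last s)
    rwa [Fin.Embedding.snoc_last] at this
  obtain ⟨e, he, hT⟩ := exists_labelling hB hA h e0 hb (by
    intro a ha
    rw [mem_blk, Nat.testBit_two_pow_sub_one, decide_eq_true_eq] at ha
    rw [eq_frame_of_lt hx0 ha]; exact hx _) (by
    rw [disjoint_left]
    intro a ha
    rw [mem_blk, Nat.testBit_two_pow, decide_eq_true_eq] at ha
    have : a = z := e0.injective (Fin.ext (by rw [hz0, ha]))
    exact this ▸ hz)
  refine ⟨e, fun i => ?_, ?_, hT⟩
  · rw [he _ (by rw [hx0]; omega), hx0]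
  · rw [he _ (by rw [hz0]; omega), hz0]

/-- Labelling for a frame made of `t` points. -/
theorem exists_labelling_frame' {t k A : ℕ} {B : Set (Finset α)} (hα : Fintype.card α = n)
    (hs : t ≤ n) (hB : IsSteinerSystem t k B)
    (hA : ∀ b ∈ B, ∀ c ∈ B, b ≠ c → A.testBit (b ∩ c).card = true) {L : List (List ℕ × Cert)}
    {Tg : List ℕ} {c : Cert} (h : checkAll n t k t A L [Tg] c (2 ^ t - 1) 0 = true)
    (x : Fin t ↪ α) :
    ∃ e : α ≃ Fin n, (∀ i, (e (x i) : ℕ) = i) ∧ ∀ c ∈ Tg, blk e c ∈ B := by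
  obtain ⟨e0, h0⟩ := exists_equiv_frame hα hs x
  obtain ⟨b, hb, hxb⟩ := exists_block hB (s := univ.map x) (by simp)
  obtain ⟨e, he, hT⟩ := exists_labelling hB hA h e0 hb (by
    intro a ha
    rw [mem_blk, Nat.testBit_two_pow_sub_one, decide_eq_true_eq] at ha
    rw [eq_frame_of_lt h0 ha]; exact hxb (by simp)) (by simp [blk_zero])
  exact ⟨e, fun i => he.frame h0 i, hT⟩

omit [DecidableEq α] in
theorem blk_inj (e : α ≃ Fin n) {x y : ℕ} (hx : x < 2 ^ n) (hy : y < 2 ^ n)
    (h : blk e x = blk e y) : x = y := by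
  apply Nat.eq_of_testBit_eq
  intro i
  by_cases hi : i < n
  · have := congrArg (fun s => e.symm ⟨i, hi⟩ ∈ s) h
    simpa [mem_blk] using this
  · rw [Nat.testBit_lt_two_pow (lt_of_lt_of_le hx (Nat.pow_le_pow_right (by norm_num) (not_lt.1 hi))),
      Nat.testBit_lt_two_pow (lt_of_lt_of_le hy (Nat.pow_le_pow_right (by norm_num) (not_lt.1 hi)))]

/-- If all the blocks are listed. -/
theorem char_of_list {B : Set (Finset α)} {Tg : List ℕ} {N : ℕ} (hN : (thru B ∅).card = N)
    (h : Tg.Nodup ∧ Tg.length = N ∧ ∀ c ∈ Tg, c < 2 ^ n) {e : α ≃ Fin n}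
    (hT : ∀ c ∈ Tg, blk e c ∈ B) (x : ℕ) :
    blk e x ∈ B ↔ ∃ c ∈ Tg, ∀ i < n, x.testBit i = c.testBit i := by
  have h1 : (Tg.map (blk e)).toFinset = thru B ∅ := by
    apply eq_of_subset_of_card_le
    · intro b hb
      obtain ⟨c, hc, rfl⟩ := List.mem_map.1 (List.mem_toFinset.1 hb)
      exact mem_thru.2 ⟨hT c hc, empty_subset _⟩
    · rw [List.toFinset_card_of_nodup, List.length_map, h.2.1, hN]
      exact h.1.map_on fun x hx y hy hxy => blk_inj e (h.2.2 x hx) (h.2.2 y hy) hxy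
  constructor
  · intro hx
    have : blk e x ∈ (Tg.map (blk e)).toFinset := h1 ▸ mem_thru.2 ⟨hx, empty_subset _⟩
    obtain ⟨c, hc, hcx⟩ := List.mem_map.1 (List.mem_toFinset.1 this)
    refine ⟨c, hc, fun i hi => ?_⟩
    have := congrArg (fun s => e.symm ⟨i, hi⟩ ∈ s) hcx
    simpa [mem_blk] using this.symm
  · rintro ⟨c, hc, hcx⟩
    have : blk e x = blk e c := by
      ext a; rw [mem_blk, mem_blk, hcx _ (e a).2]
    exact this ▸ hT c hc

omit [Fintype α] in
theorem card_symmDiff_inter (b c r : Finset α) :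
    (symmDiff b c ∩ r).card + 2 * (b ∩ c ∩ r).card = (b ∩ r).card + (c ∩ r).card := by
  have h1 : symmDiff b c ∩ r = ((b ∩ r) ∪ (c ∩ r)) \ ((b ∩ r) ∩ (c ∩ r)) := by
    ext a; simp only [mem_inter, mem_symmDiff, mem_sdiff, mem_union]; tauto
  have h2 : b ∩ c ∩ r = (b ∩ r) ∩ (c ∩ r) := by
    ext a; simp only [mem_inter]; tauto
  rw [h1, h2, ← card_union_add_card_inter (b ∩ r) (c ∩ r),
    ← card_sdiff_add_card_eq_card (inter_subset_union (s := b ∩ r) (t := c ∩ r))]
  omega

theorem card_symmDiff_add (b c : Finset α) :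
    (symmDiff b c).card + 2 * (b ∩ c).card = b.card + c.card := by
  simpa using card_symmDiff_inter b c univ

/-- A `k`-set with the right parities is a block. -/
theorem mem_of_parity {t k : ℕ} {B : Set (Finset α)} (hB : IsSteinerSystem t k B) (htk : t ≤ k)
    (W : Finset α → Prop) (hW : ∀ b ∈ B, W b)
    (hd : ∀ b c, W b → W c → b.card = k → c.card = k → t ≤ (b ∩ c).card → b = c)
    {w : Finset α} (hw : w.card = k) (hw' : W w) : w ∈ B := by
  obtain ⟨s, hs, hsc⟩ := exists_subset_card_eq (s := w) (n := t) (hw ▸ htk)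
  obtain ⟨b, hb, hsb⟩ := exists_block hB hsc
  rw [hd w b hw' (hW b hb) hw (hB.1 b hb) (hsc ▸ card_le_card (subset_inter hs hsb))]
  exact hb

end iso

section orders
variable {α : Type*} {G : Type*} [Group G] [MulAction G α]

theorem card_eq_of_orbit [Finite G] (a : α) (S : Finset α) (h : ∀ b, b ∈ S ↔ ∃ g : G, g • a = b) :
    Nat.card G = S.card * Nat.card (stabilizer G a) := by
  rw [← Subgroup.index_mul_card (stabilizer G a), MulAction.index_stabilizer,
    ← Set.ncard_coe_finset]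
  congr 2
  ext b
  rw [mem_coe, h]; rfl

theorem mem_stabilizer_emb {ι : Type*} {x : ι ↪ α} {g : G} :
    g ∈ stabilizer G x ↔ ∀ i, g • x i = x i := by
  rw [mem_stabilizer_iff, DFunLike.ext_iff]; rfl

theorem mem_stabilizer_snoc {j : ℕ} {x : Fin j ↪ α} {a : α} (ha : a ∉ Set.range x) {g : G} :
    g ∈ stabilizer G (Fin.Embedding.snoc x ha) ↔ g ∈ stabilizer G x ∧ g • a = a := by
  rw [mem_stabilizer_emb, mem_stabilizer_emb, Fin.forall_fin_succ']
  simp only [Fin.Embedding.snoc_castSucc, Fin.Embedding.snoc_last]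

theorem card_stabilizer_snoc [Finite G] {j : ℕ} (x : Fin j ↪ α) {a : α} (ha : a ∉ Set.range x)
    (S : Finset α) (h : ∀ b, b ∈ S ↔ ∃ g : G, (∀ i, g • x i = x i) ∧ g • a = b) :
    Nat.card (stabilizer G x) = S.card * Nat.card (stabilizer G (Fin.Embedding.snoc x ha)) := by
  rw [card_eq_of_orbit (G := stabilizer G x) a S]
  · congr 1
    have h1 : stabilizer (stabilizer G x) a
        = (stabilizer G (Fin.Embedding.snoc x ha)).subgroupOf (stabilizer G x) := by
      ext g
      rw [Subgroup.mem_subgroupOf, mem_stabilizer_snoc, mem_stabilizer_iff]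
      exact ⟨fun h => ⟨g.2, h⟩, fun h => h.2⟩
    rw [h1]
    exact Nat.card_congr (Subgroup.subgroupOfEquivOfLe
      (fun g hg => ((mem_stabilizer_snoc ha).1 hg).1)).toEquiv
  · intro b
    rw [h]
    constructor
    · rintro ⟨g, hg, rfl⟩
      exact ⟨⟨g, mem_stabilizer_emb.2 hg⟩, rfl⟩
    · rintro ⟨g, rfl⟩
      exact ⟨g, mem_stabilizer_emb.1 g.2, rfl⟩

theorem card_eq_of_multiplyPretransitive [Finite G] [Fintype α] {t : ℕ}
    [IsMultiplyPretransitive G α t] (x : Fin t ↪ α) :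
    Nat.card G = (Fintype.card α).descFactorial t * Nat.card (stabilizer G x) := by
  rw [card_eq_of_orbit (G := G) x univ (fun b => by simpa using exists_smul_eq G x b)]
  simp

end orders

section frames
variable {α : Type*} [Fintype α] [DecidableEq α] {B : Set (Finset α)} {t k s : ℕ}
  {G : Type*} [Group G] [MulAction G α]

/-- The automorphism group is transitive on frames (`s` points in a block, one point off it). -/
def FrameTrans (G : Type*) [Group G] [MulAction G α] (B : Set (Finset α)) (s : ℕ) : Prop :=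
  ∀ (x x' : Fin s ↪ α) (b b' : Finset α) (z z' : α), b ∈ B → b' ∈ B → (∀ i, x i ∈ b) →
    (∀ i, x' i ∈ b') → z ∉ b → z' ∉ b' →
      ∃ g : G, (∀ i, g • x i = x' i) ∧ g • z = z'

/-- Only the identity fixes a frame. -/
def FrameRigid (G : Type*) [Group G] [MulAction G α] (B : Set (Finset α)) (s : ℕ) : Prop :=
  ∀ (x : Fin s ↪ α) (b : Finset α) (z : α), b ∈ B → (∀ i, x i ∈ b) → z ∉ b →
    ∀ g : G, (∀ i, g • x i = x i) → g • z = z → g = 1

omit [Fintype α] in
theorem exists_mem_not_range {j : ℕ} (x : Fin j ↪ α) {b : Finset α} (h : j < b.card) :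
    ∃ a ∈ b, a ∉ Set.range x := by
  obtain ⟨a, ha, ha'⟩ := exists_mem_notMem_of_card_lt_card (s := univ.map x) (t := b)
    (by simpa using h)
  exact ⟨a, ha, by simpa using ha'⟩

omit [Fintype α] in
theorem FrameTrans.of_succ (hB : ∀ b ∈ B, b.card = k) (hs : s < k) (h : FrameTrans G B (s + 1)) :
    FrameTrans G B s := by
  intro x x' b b' z z' hb hb' hx hx' hz hz'
  obtain ⟨a, ha, hax⟩ := exists_mem_not_range x (b := b) (by rw [hB b hb]; exact hs)
  obtain ⟨a', ha', hax'⟩ := exists_mem_not_range x' (b := b') (by rw [hB b' hb']; exact hs)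
  obtain ⟨g, hg, hgz⟩ := h (Fin.Embedding.snoc x hax) (Fin.Embedding.snoc x' hax') b b' z z' hb hb'
    (by rw [Fin.forall_fin_succ']; simpa [Fin.Embedding.snoc_castSucc, Fin.Embedding.snoc_last, hx])
    (by rw [Fin.forall_fin_succ']; simpa [Fin.Embedding.snoc_castSucc, Fin.Embedding.snoc_last, hx'])
    hz hz'
  refine ⟨g, fun i => ?_, hgz⟩
  simpa [Fin.Embedding.snoc_castSucc] using hg i.castSucc

omit [Fintype α] in
theorem FrameTrans.of_le (hB : ∀ b ∈ B, b.card = k) {j : ℕ} (hj : j ≤ s) (hs : s ≤ k)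
    (h : FrameTrans G B s) : FrameTrans G B j := by
  induction hj with
  | refl => exact h
  | step _ ih => exact ih (by omega) (h.of_succ hB (by omega))

theorem exists_not_mem_of_card_lt {b : Finset α} (h : b.card < Fintype.card α) : ∃ z, z ∉ b := by
  obtain ⟨a, _, ha'⟩ := exists_mem_notMem_of_card_lt_card (s := b) (t := univ) (by simpa using h)
  exact ⟨a, ha'⟩

theorem FrameTrans.multiplyPretransitive (hB : IsSteinerSystem t k B) (hk : k < Fintype.card α)
    (h : FrameTrans G B t) : IsMultiplyPretransitive G α t := by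
  refine ⟨fun x x' => ?_⟩
  obtain ⟨b, hb, hxb⟩ := exists_block hB (s := univ.map x) (by simp)
  obtain ⟨b', hb', hxb'⟩ := exists_block hB (s := univ.map x') (by simp)
  obtain ⟨z, hz⟩ := exists_not_mem_of_card_lt (b := b) (by rw [hB.1 b hb]; exact hk)
  obtain ⟨z', hz'⟩ := exists_not_mem_of_card_lt (b := b') (by rw [hB.1 b' hb']; exact hk)
  obtain ⟨g, hg, _⟩ := h x x' b b' z z' hb hb' (fun i => hxb (by simp)) (fun i => hxb' (by simp))
    hz hz'
  exact ⟨g, DFunLike.ext _ _ hg⟩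

omit [Fintype α] in
theorem aut_image_eq (hB : IsSteinerSystem t k B)
    (hG : ∀ g : G, ∀ b ∈ B, b.image (g • ·) ∈ B) {j : ℕ} (hj : t ≤ j) {x : Fin j ↪ α}
    {b : Finset α} (hb : b ∈ B) (hx : ∀ i, x i ∈ b) (g : G)
    (hg : ∀ i, g • x i = x i) : b.image (g • ·) = b := by
  apply block_eq_of_subset hB (s := univ.map x) (by simpa using hj) (hG g b hb) hb
  · intro a ha
    obtain ⟨i, _, rfl⟩ := mem_map.1 ha
    exact mem_image.2 ⟨x i, hx i, hg i⟩
  · intro a ha
    obtain ⟨i, _, rfl⟩ := mem_map.1 ha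
    exact hx i

omit [Fintype α] in
theorem aut_smul_mem_iff (hB : IsSteinerSystem t k B)
    (hG : ∀ g : G, ∀ b ∈ B, b.image (g • ·) ∈ B) {j : ℕ} (hj : t ≤ j) {x : Fin j ↪ α}
    {b : Finset α} (hb : b ∈ B) (hx : ∀ i, x i ∈ b) (g : G)
    (hg : ∀ i, g • x i = x i) (a : α) : g • a ∈ b ↔ a ∈ b := by
  conv_lhs => rw [← aut_image_eq hB hG hj hb hx g hg]
  exact (MulAction.injective g).mem_finset_image

theorem card_stabilizer_of_frames [Finite G] (hB : IsSteinerSystem t k B)
    (hG : ∀ g : G, ∀ b ∈ B, b.image (g • ·) ∈ B) (hk : k < Fintype.card α)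
    (hs : s ≤ k) (hT : FrameTrans G B s) (hR : FrameRigid G B s) :
    ∀ (d j : ℕ), j + d = s → t ≤ j → ∀ (x : Fin j ↪ α) (b : Finset α), b ∈ B → (∀ i, x i ∈ b) →
      Nat.card (stabilizer G x)
        = (k - j).descFactorial d * (Fintype.card α - k) := by
  intro d
  induction d with
  | zero =>
    intro j hj htj x b hb hx
    obtain rfl : j = s := by omega
    obtain ⟨z, hz⟩ := exists_not_mem_of_card_lt (b := b) (by rw [hB.1 b hb]; exact hk)
    have hzx : z ∉ Set.range x := by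
      rintro ⟨i, rfl⟩; exact hz (hx i)
    rw [card_stabilizer_snoc x hzx bᶜ, card_compl, hB.1 b hb]
    · have : stabilizer G (Fin.Embedding.snoc x hzx) = ⊥ := by
        rw [eq_bot_iff]
        intro g hg
        rw [mem_stabilizer_snoc, mem_stabilizer_emb] at hg
        exact hR x b z hb hx hz g hg.1 hg.2
      simp [this]
    · intro z'
      rw [mem_compl]
      constructor
      · intro hz'
        exact hT x x b b z z' hb hb hx hx hz hz'
      · rintro ⟨g, hg, rfl⟩
        rwa [aut_smul_mem_iff hB hG htj hb hx g hg]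
  | succ d ih =>
    intro j hj htj x b hb hx
    obtain ⟨z, hz⟩ := exists_not_mem_of_card_lt (b := b) (by rw [hB.1 b hb]; exact hk)
    obtain ⟨a, ha, hax⟩ := exists_mem_not_range x (b := b) (by rw [hB.1 b hb]; omega)
    have hsn : ∀ a (ha : a ∈ b) (hax : a ∉ Set.range x) i, Fin.Embedding.snoc x hax i ∈ b := by
      intro a ha hax
      rw [Fin.forall_fin_succ']
      simpa [Fin.Embedding.snoc_castSucc, Fin.Embedding.snoc_last, hx]
    rw [card_stabilizer_snoc x hax (b \ univ.map x), ih (j + 1) (by omega) (by omega) _ b hb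
      (hsn a ha hax), card_sdiff_of_subset, hB.1 b hb, card_map, card_univ, Fintype.card_fin,
      ← mul_assoc]
    · congr 1
      obtain ⟨u, hu⟩ : ∃ u, k - j = u + 1 := ⟨k - j - 1, by omega⟩
      rw [hu, Nat.succ_descFactorial_succ]
      congr 2; omega
    · intro y hy
      obtain ⟨i, _, rfl⟩ := mem_map.1 hy
      exact hx i
    · intro a'
      constructor
      · intro ha'
        rw [mem_sdiff] at ha'
        have hax' : a' ∉ Set.range x := by simpa using ha'.2
        obtain ⟨g, hg, _⟩ := hT.of_le hB.1 (j := j + 1) (by omega) hs (Fin.Embedding.snoc x hax)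
          (Fin.Embedding.snoc x hax') b b z z hb hb (hsn a ha hax) (hsn a' ha'.1 hax') hz hz
        refine ⟨g, fun i => ?_, ?_⟩
        · simpa [Fin.Embedding.snoc_castSucc] using hg i.castSucc
        · simpa [Fin.Embedding.snoc_last] using hg (Fin.last j)
      · rintro ⟨g, hg, rfl⟩
        rw [mem_sdiff, aut_smul_mem_iff hB hG htj hb hx g hg]
        refine ⟨ha, fun h => hax ?_⟩
        obtain ⟨i, _, hi⟩ := mem_map.1 h
        exact ⟨i, (smul_left_cancel_iff g).1 ((hg i).trans hi)⟩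

theorem card_aut_of_frames [Finite G] (hB : IsSteinerSystem t k B)
    (hG : ∀ g : G, ∀ b ∈ B, b.image (g • ·) ∈ B) (hk : k < Fintype.card α)
    (hts : t ≤ s) (hs : s ≤ k) (hT : FrameTrans G B s) (hR : FrameRigid G B s) :
    Nat.card G = (Fintype.card α).descFactorial t *
      ((k - t).descFactorial (s - t) * (Fintype.card α - k)) := by
  have := (hT.of_le hB.1 hts hs).multiplyPretransitive hB hk
  obtain ⟨x⟩ : Nonempty (Fin t ↪ α) :=
    Function.Embedding.nonempty_of_card_le (by rw [Fintype.card_fin]; omega)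
  obtain ⟨b, hb, hxb⟩ := exists_block hB (s := univ.map x) (by simp)
  rw [card_eq_of_multiplyPretransitive x,
    card_stabilizer_of_frames hB hG hk hs hT hR (s - t) t (by omega) le_rfl x b hb
      (fun i => hxb (by simp))]

end frames

end Cfsg.Lib.Steiner
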