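import Mathlib
import Cfsg.Agent.Lib.Steiner.Frames

/-! Generic packaging of the certificate checks. -/

set_option autoImplicit false
set_option linter.unusedSectionVars false

namespace Cfsg.Lib.Steiner

open Finset MulAction
open scoped Pointwise

variable {α β : Type*} [Fintype α] [DecidableEq α] [Fintype β] [DecidableEq β] {n : ℕ}

theorem eq_of_symmDiff_parity {R : List ℕ} {col : ℕ → ℕ} (h1 : colsOK n R col = true)
    (h2 : avoidAll col 5 n = true) (e : α ≃ Fin n) {b c : Finset α}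
    (hc : b.card + c.card ≤ 6 + 2 * (b ∩ c).card)
    (hR : ∀ r ∈ R, (b ∩ blk e r).card % 2 = (c ∩ blk e r).card % 2) : b = c := by
  rw [← symmDiff_eq_bot, bot_eq_empty]
  apply min_dist h1 h2 e
  · have := card_symmDiff_add b c; omega
  · intro r hr
    have := card_symmDiff_inter b c (blk e r)
    have := hR r hr
    omega

theorem char_of_code {t k : ℕ} {B : Set (Finset α)} (hB : IsSteinerSystem t k B)
    (hpar : ∀ b ∈ B, ∀ c ∈ B, (b ∩ c).card % 2 = k % 2) (htk : t ≤ k) (h3 : k ≤ t + 3)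
    {R : List ℕ} {col : ℕ → ℕ} (h1 : colsOK n R col = true) (h2 : avoidAll col 5 n = true)
    {e : α ≃ Fin n} (hT : ∀ c ∈ R, blk e c ∈ B) (w : Finset α) :
    w ∈ B ↔ w.card = k ∧ ∀ r ∈ R, (w ∩ blk e r).card % 2 = k % 2 := by
  refine ⟨fun hw => ⟨hB.1 w hw, fun r hr => hpar w hw _ (hT r hr)⟩, fun hw => ?_⟩
  refine mem_of_parity hB htk (fun w => ∀ r ∈ R, (w ∩ blk e r).card % 2 = k % 2)
    (fun b hb r hr => hpar b hb _ (hT r hr)) ?_ hw.1 hw.2
  intro b c hb hc hbk hck ht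
  exact eq_of_symmDiff_parity h1 h2 e (by omega) fun r hr => (hb r hr).trans (hc r hr).symm

theorem char_of_code' {t k : ℕ} {B : Set (Finset α)} (hB : IsSteinerSystem t k B)
    (hpar : ∀ b ∈ B, ∀ c ∈ B, (b ∩ c).card % 2 = 0) (htk : t ≤ k) (h3 : k ≤ t + 3) (hk0 : 0 < k)
    (hk6 : k ≤ 6) {R : List ℕ} {u : ℕ} {col : ℕ → ℕ} (h1 : colsOK n (u :: R) col = true)
    (h2 : avoidAll col 5 n = true)
    {e : α ≃ Fin n} (hT : ∀ c ∈ R, blk e c ∈ B) (w : Finset α) :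
    w ∈ B ↔ w.card = k ∧ ∀ r ∈ R, (w ∩ blk e r).card % 2 = 0 := by
  refine ⟨fun hw => ⟨hB.1 w hw, fun r hr => hpar w hw _ (hT r hr)⟩, fun hw => ?_⟩
  refine mem_of_parity hB htk (fun w => ∀ r ∈ R, (w ∩ blk e r).card % 2 = 0)
    (fun b hb r hr => hpar b hb _ (hT r hr)) ?_ hw.1 hw.2
  have odd : ∀ b : Finset α, (∀ r ∈ R, (b ∩ blk e r).card % 2 = 0) → b.card = k →
      (b ∩ blk e u).card % 2 = 1 := by
    intro b hb hbk
    by_contra hu
    have : b = ∅ := min_dist h1 h2 e (by omega) (by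
      intro r hr
      rcases List.mem_cons.1 hr with rfl | hr
      · omega
      · exact hb r hr)
    rw [this, card_empty] at hbk
    omega
  intro b c hb hc hbk hck ht
  refine eq_of_symmDiff_parity h1 h2 e (by omega) fun r hr => ?_
  rcases List.mem_cons.1 hr with rfl | hr
  · rw [odd b hb hbk, odd c hc hck]
  · exact (hb r hr).trans (hc r hr).symm

theorem blk_char_of_char {B : Set (Finset α)} {k ε : ℕ} {R : List ℕ} {e : α ≃ Fin n}
    (h : ∀ w : Finset α, w ∈ B ↔ w.card = k ∧ ∀ r ∈ R, (w ∩ blk e r).card % 2 = ε) (x : ℕ) :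
    blk e x ∈ B ↔ (pc n x = k ∧ ∀ r ∈ R, pc n (x &&& r) % 2 = ε) := by
  simp only [h, ← blk_and, card_blk]

theorem aut_hG (B : Set (Finset α)) :
    ∀ g : setSystemAut B, ∀ b ∈ B, b.image (g • ·) ∈ B :=
  fun g _ hb => image_mem_of_mem_aut g.2 hb

theorem frameTrans_of_lab {B : Set (Finset α)} {s : ℕ} {P : ℕ → Prop}
    (h : ∀ (x : Fin s ↪ α) (b : Finset α) (z : α), b ∈ B → (∀ i, x i ∈ b) → z ∉ b →
      ∃ e : α ≃ Fin n, (∀ i, (e (x i) : ℕ) = i) ∧ (e z : ℕ) = s ∧ ∀ y, blk e y ∈ B ↔ P y) :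
    FrameTrans (setSystemAut B) B s := by
  intro x x' b b' z z' hb hb' hx hx' hz hz'
  obtain ⟨e, h1, h2, h3⟩ := h x b z hb hx hz
  obtain ⟨e', h1', h2', h3'⟩ := h x' b' z' hb' hx' hz'
  refine ⟨⟨e.trans e'.symm, mem_aut_of_char h3 h3'⟩, fun i => ?_, ?_⟩
  · change e'.symm (e (x i)) = x' i
    rw [Equiv.symm_apply_eq]
    exact Fin.ext (by rw [h1, h1'])
  · change e'.symm (e z) = z'
    rw [Equiv.symm_apply_eq]
    exact Fin.ext (by rw [h2, h2'])

theorem frameRigid_of_lab {t k : ℕ} {B : Set (Finset α)} (hB : IsSteinerSystem t k B) {s : ℕ}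
    {Tg : List ℕ} {c : RCert} (hr : rcheck n t Tg c (al0 n (s + 1)) = true)
    (h : ∀ (x : Fin s ↪ α) (b : Finset α) (z : α), b ∈ B → (∀ i, x i ∈ b) → z ∉ b →
      ∃ e : α ≃ Fin n, (∀ i, (e (x i) : ℕ) = i) ∧ (e z : ℕ) = s ∧ ∀ y ∈ Tg, blk e y ∈ B) :
    FrameRigid (setSystemAut B) B s := by
  intro x b z hb hx hz g hg hgz
  obtain ⟨e, h1, h2, h3⟩ := h x b z hb hx hz
  apply Subtype.ext
  refine rigid_of_rcheck hB e h3 hr g.1 (fun b hb => image_mem_of_mem_aut g.2 hb) fun a ha => ?_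
  by_cases ha' : (e a : ℕ) < s
  · rw [eq_frame_of_lt h1 ha']; exact hg _
  · have : a = z := e.injective (Fin.ext (by omega))
    rw [this]; exact hgz

theorem exists_frame {t k : ℕ} {B : Set (Finset α)} (hB : IsSteinerSystem t k B) {s : ℕ}
    (ht : t ≤ Fintype.card α) (hs : s ≤ k) (hk : k < Fintype.card α) :
    ∃ (x : Fin s ↪ α) (b : Finset α) (z : α), b ∈ B ∧ (∀ i, x i ∈ b) ∧ z ∉ b := by
  obtain ⟨T, _, hT⟩ := exists_subset_card_eq (s := (univ : Finset α)) (n := t) (by simpa using ht)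
  obtain ⟨b, hb, _⟩ := exists_block hB hT
  obtain ⟨z, hz⟩ := exists_not_mem_of_card_lt (b := b) (by rw [hB.1 b hb]; exact hk)
  obtain ⟨x⟩ : Nonempty (Fin s ↪ b) :=
    Function.Embedding.nonempty_of_card_le (by simpa [hB.1 b hb] using hs)
  exact ⟨x.trans (Function.Embedding.subtype _), b, z, hb, fun i => (x i).2, hz⟩

theorem trans_of_lab {B : Set (Finset α)} {s : ℕ} {P : ℕ → Prop}
    (h : ∀ x : Fin s ↪ α, ∃ e : α ≃ Fin n, (∀ i, (e (x i) : ℕ) = i) ∧ ∀ y, blk e y ∈ B ↔ P y) :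
    IsMultiplyPretransitive (setSystemAut B) α s := by
  refine ⟨fun x x' => ?_⟩
  obtain ⟨e, h1, h3⟩ := h x
  obtain ⟨e', h1', h3'⟩ := h x'
  refine ⟨⟨e.trans e'.symm, mem_aut_of_char h3 h3'⟩, DFunLike.ext _ _ fun i => ?_⟩
  change e'.symm (e (x i)) = x' i
  rw [Equiv.symm_apply_eq]
  exact Fin.ext (by rw [h1, h1'])

theorem rigid_of_lab {t k : ℕ} {B : Set (Finset α)} (hB : IsSteinerSystem t k B) {s : ℕ}
    {Tg : List ℕ} {c : RCert} (hr : rcheck n t Tg c (al0 n s) = true)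
    (h : ∀ x : Fin s ↪ α, ∃ e : α ≃ Fin n, (∀ i, (e (x i) : ℕ) = i) ∧ ∀ y ∈ Tg, blk e y ∈ B)
    (x : Fin s ↪ α) (g : setSystemAut B) (hg : ∀ i, g • x i = x i) : g = 1 := by
  obtain ⟨e, h1, h3⟩ := h x
  apply Subtype.ext
  refine rigid_of_rcheck hB e h3 hr g.1 (fun b hb => image_mem_of_mem_aut g.2 hb) fun a ha => ?_
  rw [eq_frame_of_lt h1 ha]; exact hg _

end Cfsg.Lib.Steiner
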