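import Mathlib
import Cfsg.Agent.Lib.Steiner.Rigid

/-! Generated certificates for the Steiner system on 11 points. -/

set_option autoImplicit false
set_option maxRecDepth 100000

namespace Cfsg.Lib.Steiner

/-- Search certificate, step 65. -/
def c11_65 : Cert :=
  (.start 1472 (.br 0 1 (.dead 22) (.br 1 2 (.dead 10) (.br 2 4 (.dead 15) (.br 4 16 (.dead 2)
  (.br 3 8 (.full (.ref 0)) (.dead 64)))))))

/-- Search certificate, step 64. -/
def c11_64 : Cert :=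
  (.start 1162 (.br 0 1 (.dead 2) (.br 2 4 (.dead 7) (.br 4 16 (.dead 12) (.br 6 64 (.dead 2)
  (.br 5 32 (.full c11_65) (.dead 53)))))))

/-- Search certificate, step 63. -/
def c11_63 : Cert :=
  (.start 898 (.br 0 1 (.dead 7) (.br 2 4 (.dead 9) (.br 3 8 (.dead 2) (.br 5 32 (.dead 2) (.br 4
  16 (.full c11_64) (.dead 36)))))))

/-- Search certificate, step 62. -/
def c11_62 : Cert :=
  (.start 1424 (.br 0 1 (.dead 10) (.br 1 2 (.dead 7) (.br 2 4 (.dead 12) (.br 3 8 (.dead 17)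
  (.br 5 32 (.full c11_63) (.dead 42)))))))

/-- Search certificate, step 61. -/
def c11_61 : Cert :=
  (.start 804 (.br 0 1 (.dead 1) (.br 1 2 (.dead 8) (.br 3 8 (.dead 0) (.br 6 64 (.dead 9) (.br 4
  16 (.full c11_62) (.dead 17)))))))

/-- Search certificate, step 60. -/
def c11_60 : Cert :=
  (.start 928 (.br 0 1 (.dead 0) (.br 1 2 (.dead 4) (.br 2 4 (.dead 0) (.br 4 16 (.dead 3) (.br 3
  8 (.full c11_61) (.dead 59)))))))

/-- Search certificate, step 59. -/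
def c11_59 : Cert :=
  (.start 417 (.br 1 2 (.dead 0) (.br 3 8 (.dead 10) (.br 4 16 (.dead 2) (.br 6 64 (.dead 10)
  (.br 2 4 (.full c11_60) (.dead 47)))))))

/-- Search certificate, step 58. -/
def c11_58 : Cert :=
  (.start 596 (.br 0 1 (.dead 22) (.br 1 2 (.dead 9) (.br 5 32 (.dead 29) (.br 7 128 (.dead 11)
  (.br 3 8 (.full c11_59) (.dead 38)))))))

/-- Search certificate, step 57. -/
def c11_57 : Cert :=
  (.start 777 (.br 1 2 (.dead 19) (.br 2 4 (.dead 2) (.br 5 32 (.dead 2) (.br 6 64 (.dead 19)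
  (.br 4 16 (.full c11_58) (.dead 45)))))))

/-- Search certificate, step 56. -/
def c11_56 : Cert :=
  (.start 1038 (.br 0 1 (.dead 10) (.br 4 16 (.dead 7) (.br 5 32 (.dead 3) (.br 7 128 (.dead 2)
  (.br 6 64 (.full c11_57) (.dead 5)))))))

/-- Search certificate, step 55. -/
def c11_55 : Cert :=
  (.start 547 (.br 2 4 (.dead 0) (.br 3 8 (.dead 0) (.br 4 16 (.dead 19) (.br 6 64 (.dead 19)
  (.br 7 128 (.full c11_56) (.dead 7)))))))

/-- Search certificate, step 54. -/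
def c11_54 : Cert :=
  (.start 525 (.br 1 2 (.dead 0) (.br 4 16 (.dead 12) (.br 6 64 (.dead 24) (.br 7 128 (.dead 0)
  (.br 5 32 (.full c11_55) (.dead 3)))))))

/-- Search certificate, step 53. -/
def c11_53 : Cert :=
  (.start 526 (.br 0 1 (.dead 31) (.br 4 16 (.dead 4) (.br 5 32 (.dead 0) (.br 6 64 (.dead 15)
  (.br 7 128 (.full c11_54) (.dead 2)))))))

/-- Search certificate, step 52. -/
def c11_52 : Cert :=
  (.start 298 (.br 0 1 (.dead 5) (.br 4 16 (.dead 20) (.br 6 64 (.dead 10) (.br 7 128 (.dead 10)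
  (.br 2 4 (.full c11_53) (.dead 4)))))))

/-- Search certificate, step 51. -/
def c11_51 : Cert :=
  (.start 1155 (.br 2 4 (.dead 1) (.br 3 8 (.dead 20) (.br 5 32 (.dead 5) (.br 6 64 (.dead 8)
  (.br 4 16 (.full c11_52) (.dead 39)))))))

/-- Search certificate, step 50. -/
def c11_50 : Cert :=
  (.start 1796 (.br 0 1 (.dead 9) (.br 1 2 (.dead 0) (.br 4 16 (.dead 1) (.br 5 32 (.dead 2) (.br
  3 8 (.full c11_51) (.dead 36)))))))

/-- Search certificate, step 49. -/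
def c11_49 : Cert :=
  (.start 1412 (.br 0 1 (.dead 8) (.br 3 8 (.dead 13) (.br 4 16 (.dead 8) (.br 5 32 (.dead 5)
  (.br 1 2 (.full c11_50) (.dead 35)))))))

/-- Search certificate, step 48. -/
def c11_48 : Cert :=
  (.start 1556 (.br 0 1 (.dead 6) (.br 3 8 (.dead 3) (.br 5 32 (.dead 4) (.br 6 64 (.dead 24)
  (.br 1 2 (.full c11_49) (.dead 46)))))))

/-- Search certificate, step 47. -/
def c11_47 : Cert :=
  (.start 1794 (.br 0 1 (.dead 7) (.br 2 4 (.dead 25) (.br 3 8 (.dead 9) (.br 4 16 (.dead 7) (.br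
  5 32 (.full c11_48) (.dead 20)))))))

/-- Search certificate, step 46. -/
def c11_46 : Cert :=
  (.start 1289 (.br 1 2 (.dead 14) (.br 2 4 (.dead 5) (.br 4 16 (.dead 5) (.br 6 64 (.dead 7)
  (.br 5 32 (.full c11_47) (.dead 34)))))))

/-- Search certificate, step 45. -/
def c11_45 : Cert :=
  (.start 1061 (.br 3 8 (.dead 14) (.br 4 16 (.dead 4) (.br 6 64 (.dead 2) (.br 7 128 (.dead 1)
  (.br 1 2 (.full c11_46) (.dead 8)))))))

/-- Search certificate, step 44. -/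
def c11_44 : Cert :=
  (.start 1680 (.br 0 1 (.dead 26) (.br 1 2 (.dead 17) (.br 2 4 (.dead 0) (.br 5 32 (.dead 0)
  (.br 3 8 (.full c11_45) (.dead 24)))))))

/-- Search certificate, step 43. -/
def c11_43 : Cert :=
  (.start 1668 (.br 0 1 (.dead 12) (.br 1 2 (.dead 16) (.br 3 8 (.dead 12) (.br 4 16 (.dead 19)
  (.br 5 32 (.full c11_44) (.dead 29)))))))

/-- Search certificate, step 42. -/
def c11_42 : Cert :=
  (.start 1217 (.br 1 2 (.dead 15) (.br 2 4 (.dead 11) (.br 3 8 (.dead 3) (.br 4 16 (.dead 3)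
  (.br 5 32 (.full c11_43) (.dead 30)))))))

/-- Search certificate, step 41. -/
def c11_41 : Cert :=
  (.start 226 (.br 0 1 (.dead 31) (.br 2 4 (.dead 1) (.br 3 8 (.dead 0) (.br 4 16 (.dead 4) (.br
  8 256 (.full c11_42) (.dead 14)))))))

/-- Search certificate, step 40. -/
def c11_40 : Cert :=
  (.start 1285 (.br 1 2 (.dead 18) (.br 3 8 (.dead 9) (.br 5 32 (.dead 3) (.br 6 64 (.dead 14)
  (.br 4 16 (.full c11_41) (.dead 28)))))))

/-- Search certificate, step 39. -/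
def c11_39 : Cert :=
  (.start 232 (.br 0 1 (.dead 9) (.br 1 2 (.dead 2) (.br 4 16 (.dead 2) (.br 8 256 (.dead 18)
  (.br 2 4 (.full c11_40) (.dead 14)))))))

/-- Search certificate, step 38. -/
def c11_38 : Cert :=
  (.start 1097 (.br 1 2 (.dead 21) (.br 2 4 (.dead 7) (.br 5 32 (.dead 13) (.br 7 128 (.dead 7)
  (.br 4 16 (.full c11_39) (.dead 22)))))))

/-- Search certificate, step 37. -/
def c11_37 : Cert :=
  (.start 778 (.br 0 1 (.dead 13) (.br 2 4 (.dead 15) (.br 4 16 (.dead 5) (.br 5 32 (.dead 13)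
  (.br 6 64 (.full c11_38) (.dead 26)))))))

/-- Search certificate, step 36. -/
def c11_36 : Cert :=
  (.start 202 (.br 0 1 (.dead 6) (.br 2 4 (.dead 23) (.br 5 32 (.dead 34) (.br 8 256 (.dead 23)
  (.br 4 16 (.full c11_37) (.dead 9)))))))

/-- Search certificate, step 35. -/
def c11_35 : Cert :=
  (.start 594 (.br 2 4 (.dead 2) (.br 3 8 (.dead 30) (.br 5 32 (.dead 4) (.br 7 128 (.dead 8)
  (.br 0 1 (.full c11_36) (.dead 15)))))))

/-- Search certificate, step 34. -/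
def c11_34 : Cert :=
  (.start 449 (.br 1 2 (.dead 6) (.br 2 4 (.dead 20) (.br 3 8 (.dead 4) (.br 5 32 (.dead 0) (.br
  4 16 (.full c11_35) (.dead 22)))))))

/-- Search certificate, step 33. -/
def c11_33 : Cert :=
  (.start 801 (.br 1 2 (.dead 9) (.br 2 4 (.dead 11) (.br 3 8 (.dead 9) (.br 4 16 (.dead 20) (.br
  6 64 (.full c11_34) (.dead 21)))))))

/-- Search certificate, step 32. -/
def c11_32 : Cert :=
  (.start 326 (.br 0 1 (.dead 10) (.br 3 8 (.dead 19) (.br 5 32 (.dead 3) (.br 7 128 (.dead 18)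
  (.br 4 16 (.full c11_33) (.dead 29)))))))

/-- Search certificate, step 31. -/
def c11_31 : Cert :=
  (.start 1290 (.br 0 1 (.dead 14) (.br 2 4 (.dead 16) (.br 5 32 (.dead 13) (.br 6 64 (.dead 13)
  (.br 4 16 (.full c11_32) (.dead 20)))))))

/-- Search certificate, step 30. -/
def c11_30 : Cert :=
  (.start 1161 (.br 1 2 (.dead 23) (.br 4 16 (.dead 1) (.br 5 32 (.dead 27) (.br 6 64 (.dead 0)
  (.br 2 4 (.full c11_31) (.dead 18)))))))

/-- Search certificate, step 29. -/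
def c11_29 : Cert :=
  (.start 649 (.br 1 2 (.dead 3) (.br 2 4 (.dead 6) (.br 4 16 (.dead 3) (.br 5 32 (.dead 26) (.br
  6 64 (.full c11_30) (.dead 17)))))))

/-- Search certificate, step 28. -/
def c11_28 : Cert :=
  (.start 612 (.br 0 1 (.dead 17) (.br 3 8 (.dead 3) (.br 4 16 (.dead 13) (.br 7 128 (.dead 13)
  (.br 1 2 (.full c11_29) (.dead 2)))))))

/-- Search certificate, step 27. -/
def c11_27 : Cert :=
  (.start 1080 (.br 0 1 (.dead 13) (.br 1 2 (.dead 4) (.br 6 64 (.dead 2) (.br 7 128 (.dead 5)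
  (.br 2 4 (.full c11_28) (.dead 17)))))))

/-- Search certificate, step 26. -/
def c11_26 : Cert :=
  (.start 1728 (.br 0 1 (.dead 14) (.br 2 4 (.dead 2) (.br 3 8 (.dead 1) (.br 4 16 (.dead 2) (.br
  1 2 (.full c11_27) (.dead 25)))))))

/-- Search certificate, step 25. -/
def c11_25 : Cert :=
  (.start 1376 (.br 0 1 (.dead 8) (.br 1 2 (.dead 2) (.br 3 8 (.dead 0) (.br 4 16 (.dead 2) (.br
  2 4 (.full c11_26) (.dead 24)))))))

/-- Search certificate, step 24. -/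
def c11_24 : Cert :=
  (.start 1632 (.br 0 1 (.dead 5) (.br 1 2 (.dead 1) (.br 2 4 (.dead 16) (.br 4 16 (.dead 1) (.br
  3 8 (.full c11_25) (.dead 23)))))))

/-- Search certificate, step 23. -/
def c11_23 : Cert :=
  (.start 1172 (.br 0 1 (.dead 5) (.br 1 2 (.dead 7) (.br 3 8 (.dead 4) (.br 5 32 (.dead 7) (.br
  6 64 (.full c11_24) (.dead 21)))))))

/-- Search certificate, step 22. -/
def c11_22 : Cert :=
  (.start 1136 (.br 0 1 (.dead 9) (.br 2 4 (.dead 11) (.br 3 8 (.dead 0) (.br 7 128 (.dead 0)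
  (.br 1 2 (.full c11_23) (.dead 2)))))))

/-- Search certificate, step 21. -/
def c11_21 : Cert :=
  (.start 771 (.br 3 8 (.dead 14) (.br 4 16 (.dead 17) (.br 5 32 (.dead 17) (.br 6 64 (.dead 4)
  (.br 2 4 (.full c11_22) (.dead 9)))))))

/-- Search certificate, step 20. -/
def c11_20 : Cert :=
  (.start 368 (.br 0 1 (.dead 9) (.br 1 2 (.dead 16) (.br 2 4 (.dead 9) (.br 7 128 (.dead 5) (.br
  3 8 (.full c11_21) (.dead 0)))))))

/-- Search certificate, step 19. -/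
def c11_19 : Cert :=
  (.start 1856 (.br 0 1 (.dead 2) (.br 1 2 (.dead 2) (.br 2 4 (.dead 5) (.br 3 8 (.dead 3) (.br 4
  16 (.full c11_20) (.dead 18)))))))

/-- Search certificate, step 18. -/
def c11_18 : Cert :=
  (.start 404 (.br 0 1 (.dead 0) (.br 1 2 (.dead 2) (.br 5 32 (.dead 2) (.br 6 64 (.dead 4) (.br
  3 8 (.full c11_19) (.dead 16)))))))

/-- Search certificate, step 17. -/
def c11_17 : Cert :=
  (.start 660 (.br 1 2 (.dead 1) (.br 3 8 (.dead 0) (.br 5 32 (.dead 0) (.br 6 64 (.dead 2) (.br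
  0 1 (.full c11_18) (.dead 15)))))))

/-- Search certificate, step 16. -/
def c11_16 : Cert :=
  (.start 1283 (.br 2 4 (.dead 1) (.br 3 8 (.dead 1) (.br 4 16 (.dead 12) (.br 5 32 (.dead 12)
  (.br 6 64 (.full c11_17) (.dead 4)))))))

/-- Search certificate, step 15. -/
def c11_15 : Cert :=
  (.start 178 (.br 0 1 (.dead 11) (.br 3 8 (.dead 7) (.br 6 64 (.dead 0) (.br 8 256 (.dead 7)
  (.br 2 4 (.full c11_16) (.dead 6)))))))

/-- Search certificate, step 14. -/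
def c11_14 : Cert :=
  (.start 624 (.br 0 1 (.dead 1) (.br 1 2 (.dead 9) (.br 2 4 (.dead 3) (.br 3 8 (.dead 9) (.br 10
  1024 (.dead 1) (.br 7 128 (.full (.ref 0)) (.br 8 256 (.full (.start 1037 (.br 1 2 (.dead 0)
  (.br 4 16 (.dead 14) (.br 6 64 (.dead 6) (.br 7 128 (.dead 0) (.br 8 256 (.dead 6) (.br 5 32
  (.full (.start 39 (.br 3 8 (.dead 0) (.br 4 16 (.dead 5) (.br 6 64 (.dead 5) (.br 7 128 (.dead
  6) (.br 8 256 (.dead 12) (.br 9 512 (.full (.start 344 (.br 0 1 (.dead 8) (.br 2 4 (.dead 8)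
  (.br 5 32 (.dead 2) (.br 7 128 (.dead 0) (.br 9 512 (.dead 2) (.br 1 2 (.full (.start 165 (.br
  1 2 (.dead 1) (.br 3 8 (.dead 2) (.br 4 16 (.dead 7) (.br 6 64 (.dead 7) (.br 8 256 (.full
  (.start 449 (.br 1 2 (.dead 9) (.br 2 4 (.dead 0) (.br 3 8 (.dead 10) (.br 5 32 (.dead 0) (.br
  4 16 (.full (.start 1572 (.br 0 1 (.dead 2) (.br 1 2 (.dead 0) (.br 3 8 (.dead 0) (.br 4 16
  (.dead 7) (.br 6 64 (.dead 12) (.br 7 128 (.dead 2) (.br 8 256 (.full (.start 83 (.br 2 4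
  (.dead 10) (.br 3 8 (.dead 0) (.br 5 32 (.dead 10) (.br 7 128 (.dead 0) (.br 8 256 (.dead 1)
  (.br 9 512 (.full (.start 643 (.br 2 4 (.dead 5) (.br 3 8 (.dead 15) (.br 4 16 (.dead 0) (.br 5
  32 (.dead 5) (.br 6 64 (.dead 0) (.dead 10)))))))) (.br 10 1024 (.full (.start 89 (.br 1 2
  (.dead 0) (.br 2 4 (.dead 11) (.br 5 32 (.dead 11) (.br 7 128 (.dead 1) (.br 8 256 (.dead 2)
  (.br 9 512 (.full (.swap 5 6 (.swap 7 9 (.swap 8 10 (.swap 9 10 (.ref 0)))))) (.dead 0)))))))))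
  .small))))))))) .small))))))))) (.dead 7)))))))) (.dead 0)))))))) (.dead 0))))))))) (.dead
  0))))))))) (.dead 7))))))))) .small))))))))

/-- Search certificate, step 13. -/
def c11_13 : Cert :=
  (.start 452 (.br 0 1 (.dead 3) (.br 1 2 (.dead 0) (.br 3 8 (.dead 0) (.br 4 16 (.dead 7) (.br 5
  32 (.dead 7) (.br 9 512 (.full c11_14) (.dead 8))))))))

/-- Search certificate, step 12. -/
def c11_12 : Cert :=
  (.start 1569 (.br 1 2 (.dead 6) (.br 2 4 (.dead 4) (.br 3 8 (.dead 6) (.br 6 64 (.dead 4) (.br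
  4 16 (.full c11_13) (.dead 0)))))))

/-- Search certificate, step 11. -/
def c11_11 : Cert :=
  (.start 1920 (.br 1 2 (.dead 0) (.br 2 4 (.dead 9) (.br 3 8 (.dead 0) (.br 4 16 (.dead 9) (.br
  0 1 (.full c11_12) (.dead 10)))))))

/-- Search certificate, step 10. -/
def c11_10 : Cert :=
  (.start 101 (.br 1 2 (.dead 0) (.br 3 8 (.dead 1) (.br 7 128 (.dead 0) (.br 8 256 (.dead 1)
  (.br 4 16 (.full c11_11) (.dead 2)))))))

/-- Search certificate, step 9. -/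
def c11_9 : Cert :=
  (.start 71 (.br 3 8 (.dead 0) (.br 4 16 (.dead 8) (.br 5 32 (.dead 7) (.br 8 256 (.dead 0) (.br
  7 128 (.full c11_10) (.dead 1)))))))

/-- Search certificate, step 8. -/
def c11_8 : Cert :=
  (.start 77 (.br 1 2 (.dead 6) (.br 4 16 (.dead 7) (.br 5 32 (.dead 6) (.br 9 512 (.dead 0) (.br
  10 1024 (.dead 0) (.br 8 256 (.full c11_9) (.br 7 128 (.full (.start 649 (.br 1 2 (.dead 2)
  (.br 2 4 (.dead 0) (.br 4 16 (.dead 6) (.br 5 32 (.dead 6) (.br 6 64 (.dead 0) (.br 8 256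
  (.dead 2) (.dead 3))))))))) .small))))))))

/-- Search certificate, step 7. -/
def c11_7 : Cert :=
  (.start 1604 (.br 1 2 (.dead 4) (.br 3 8 (.dead 3) (.br 4 16 (.dead 0) (.br 5 32 (.dead 0) (.br
  7 128 (.dead 3) (.br 0 1 (.full c11_8) (.dead 4))))))))

/-- Search certificate, step 6. -/
def c11_6 : Cert :=
  (.start 139 (.br 2 4 (.dead 5) (.br 4 16 (.dead 3) (.br 5 32 (.dead 3) (.br 6 64 (.dead 4) (.br
  8 256 (.full c11_7) (.dead 0)))))))

/-- Search certificate, step 5. -/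
def c11_5 : Cert :=
  (.start 1035 (.br 2 4 (.dead 4) (.br 4 16 (.dead 4) (.br 5 32 (.dead 3) (.br 6 64 (.dead 3)
  (.br 9 512 (.full (.ref 0)) (.br 8 256 (.full (.start 523 (.br 2 4 (.dead 5) (.br 4 16 (.dead
  1) (.br 5 32 (.dead 1) (.br 6 64 (.dead 4) (.br 7 128 (.full (.start 281 (.br 1 2 (.dead 1)
  (.br 2 4 (.dead 6) (.br 5 32 (.dead 3) (.br 7 128 (.dead 4) (.br 10 1024 (.dead 1) (.br 9 512
  (.full (.start 147 (.br 2 4 (.dead 7) (.br 3 8 (.dead 1) (.br 5 32 (.dead 4) (.br 8 256 (.dead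
  4) (.br 9 512 (.dead 1) (.br 10 1024 (.full (.start 1049 (.br 1 2 (.dead 0) (.br 2 4 (.dead 8)
  (.br 5 32 (.dead 6) (.br 7 128 (.dead 0) (.br 6 64 (.full (.start 1050 (.br 0 1 (.dead 0) (.br
  2 4 (.dead 9) (.br 5 32 (.dead 5) (.br 6 64 (.dead 0) (.br 7 128 (.dead 1) (.br 8 256 (.dead 4)
  (.dead 5))))))))) (.dead 1)))))))) (.br 6 64 (.full (.start 1050 (.br 0 1 (.dead 3) (.br 2 4
  (.dead 8) (.br 5 32 (.dead 4) (.br 8 256 (.dead 3) (.br 9 512 (.dead 4) (.br 7 128 (.full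
  (.swap 5 7 (.swap 6 9 (.swap 8 9 (.swap 9 10 (.ref 0)))))) (.br 6 64 (.full (.start 89 (.br 1 2
  (.dead 0) (.br 2 4 (.dead 9) (.br 5 32 (.dead 7) (.br 7 128 (.dead 1) (.br 10 1024 (.dead 0)
  (.dead 2)))))))) .small))))))))) .small))))))))) (.br 6 64 (.full (.start 282 (.br 0 1 (.dead
  0) (.br 2 4 (.dead 7) (.br 5 32 (.dead 3) (.br 6 64 (.dead 0) (.br 9 512 (.dead 3) (.br 7 128
  (.full (.swap 5 8 (.swap 6 10 (.swap 7 10 (.swap 9 10 (.ref 0)))))) (.dead 2)))))))))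
  .small))))))))) (.dead 0)))))))) (.br 7 128 (.full (.start 1050 (.br 0 1 (.dead 0) (.br 2 4
  (.dead 5) (.br 5 32 (.dead 1) (.br 7 128 (.dead 0) (.br 9 512 (.dead 1) (.br 8 256 (.full
  (.start 267 (.br 2 4 (.dead 6) (.br 4 16 (.dead 0) (.br 5 32 (.dead 3) (.br 6 64 (.dead 5) (.br
  7 128 (.dead 1) (.br 9 512 (.full (.start 537 (.br 1 2 (.dead 0) (.br 2 4 (.dead 7) (.br 5 32
  (.dead 3) (.br 7 128 (.dead 5) (.br 8 256 (.dead 0) (.br 10 1024 (.full (.start 531 (.br 2 4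
  (.dead 8) (.br 3 8 (.dead 0) (.br 5 32 (.dead 4) (.br 8 256 (.dead 1) (.br 10 1024 (.dead 0)
  (.br 7 128 (.full (.swap 5 9 (.swap 6 8 (.swap 7 10 (.swap 8 10 (.ref 0)))))) (.br 6 64 (.full
  (.start 1043 (.br 2 4 (.dead 9) (.br 3 8 (.dead 1) (.br 5 32 (.dead 6) (.br 6 64 (.dead 0) (.br
  7 128 (.dead 4) (.br 8 256 (.dead 3) (.dead 0))))))))) .small))))))))) (.br 6 64 (.full (.start
  1049 (.br 1 2 (.dead 2) (.br 2 4 (.dead 8) (.br 5 32 (.dead 6) (.br 6 64 (.dead 0) (.br 7 128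
  (.dead 3) (.br 8 256 (.dead 2) (.dead 0))))))))) .small))))))))) (.dead 0))))))))) (.br 6 64
  (.full (.start 1043 (.br 2 4 (.dead 6) (.br 3 8 (.dead 0) (.br 5 32 (.dead 3) (.br 6 64 (.dead
  0) (.br 7 128 (.dead 1) (.br 8 256 (.dead 3) (.br 9 512 (.full (.start 1049 (.br 1 2 (.dead 0)
  (.br 2 4 (.dead 7) (.br 5 32 (.dead 5) (.br 6 64 (.dead 1) (.br 7 128 (.dead 2) (.br 8 256
  (.full (.swap 5 10 (.swap 6 7 (.swap 7 8 (.swap 8 9 (.ref 0)))))) (.dead 0)))))))))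
  .small))))))))) .small))))))))) .small))))))))

/-- Search certificate, step 4. -/
def c11_4 : Cert :=
  (.start 58 (.br 0 1 (.dead 0) (.br 2 4 (.dead 3) (.br 6 64 (.dead 2) (.br 7 128 (.dead 1) (.br
  8 256 (.dead 0) (.br 9 1536 (.full c11_5) .small)))))))

/-- Search certificate, step 3. -/
def c11_3 : Cert :=
  (.start 51 (.br 2 4 (.dead 2) (.br 3 8 (.dead 0) (.br 6 64 (.dead 1) (.br 7 128 (.dead 0) (.br
  8 1792 (.full c11_4) .small))))))

/-- Search certificate, step 2. -/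
def c11_2 : Cert :=
  (.start 57 (.br 1 2 (.dead 0) (.br 2 4 (.dead 1) (.br 6 64 (.dead 0) (.br 7 1920 (.full c11_3)
  .small)))))

/-- Search certificate, step 1. -/
def c11_1 : Cert :=
  (.start 43 (.br 2 4 (.dead 0) (.br 4 16 (.dead 0) (.br 6 1984 (.full c11_2) .small))))

/-- Search certificate, step 0. -/
def c11_0 : Cert :=
  (.br 4 2032 (.full c11_1) .small)

/-- The blocks found by the search. -/
def tg11 : List ℕ :=
  [1480, 1194, 914, 1456, 820, 936, 421, 604, 793, 1102, 675, 557, 654, 302, 1171, 1804, 1414,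
  1558, 1826, 1321, 1063, 1688, 1700, 1249, 482, 1301, 236, 1113, 842, 218, 595, 465, 865, 342,
  1306, 1165, 713, 614, 1084, 1730, 1380, 1640, 1236, 1138, 775, 376, 1872, 412, 661, 1347, 182,
  752, 964, 1585, 1921, 117, 199, 333, 1605, 395, 1547, 570, 307, 185, 107, 31]

theorem check11 : checkAll 11 4 5 4 14
  [([752, 964, 1585, 1921, 117, 199, 333, 1605, 395, 1547, 570, 307, 185, 107, 31], c11_15),
  ([1547, 570, 307, 185, 107, 31], c11_6)]
  [tg11] c11_0 15 0 = true := by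
  decide +kernel

/-- Rigidity certificate. -/
def rc11 : RCert :=
  (.inj 0 0 (.inj 1 1 (.inj 2 2 (.inj 3 3 (.blk 65 65 15 (.br 5 32 (.inj 5 5 (.blk 11 11 45 (.blk
  4 4 564 (.blk 2 2 786 (.blk 1 1 170 .done))))) (.br 5 64 (.inj 5 6 (.blk 11 57 45 (.blk 4 33
  564 (.dead 1)))) (.br 5 128 (.inj 5 7 (.blk 11 35 45 (.blk 10 14 547 (.dead 4)))) (.br 5 256
  (.inj 5 8 (.blk 11 57 45 (.blk 4 33 564 (.dead 1)))) (.blk 50 17 54 (.blk 18 24 1794 (.dead
  5))))))))))))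

theorem rcheck11 : rcheck 11 4 tg11 rc11 (al0 11 4) = true := by
  decide +kernel

theorem nodup11 : tg11.Nodup ∧ tg11.length = 66 ∧ ∀ c ∈ tg11, c < 2 ^ 11 := by
  decide +kernel

end Cfsg.Lib.Steiner
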