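import Mathlib
import Cfsg.Agent.Lib.Steiner.Rigid

/-! Generated certificates for the Steiner system on 12 points. -/

set_option autoImplicit false
set_option maxRecDepth 100000

namespace Cfsg.Lib.Steiner

/-- Search certificate, step 131. -/
def c12_131 : Cert :=
  (.start 3472 (.br 0 1 (.dead 16) (.br 1 2 (.dead 4) (.br 2 4 (.dead 6) (.br 3 8 (.dead 4) (.br
  5 32 (.full (.ref 0)) (.dead 36)))))))

/-- Search certificate, step 130. -/
def c12_130 : Cert :=
  (.start 1922 (.br 0 1 (.dead 0) (.br 2 4 (.full c12_131) (.dead 0))))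

/-- Search certificate, step 129. -/
def c12_129 : Cert :=
  (.start 2153 (.br 1 2 (.dead 20) (.br 2 4 (.dead 8) (.br 7 128 (.dead 65) (.br 8 256 (.dead 30)
  (.br 4 16 (.full c12_130) (.dead 122)))))))

/-- Search certificate, step 128. -/
def c12_128 : Cert :=
  (.start 1744 (.br 0 1 (.full c12_129) (.dead 0)))

/-- Search certificate, step 127. -/
def c12_127 : Cert :=
  (.start 2094 (.br 0 1 (.dead 6) (.br 4 16 (.dead 22) (.br 6 64 (.dead 18) (.br 7 128 (.dead 39)
  (.br 8 256 (.full c12_128) (.dead 55)))))))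

/-- Search certificate, step 126. -/
def c12_126 : Cert :=
  (.start 1636 (.br 0 1 (.full c12_127) (.dead 0)))

/-- Search certificate, step 125. -/
def c12_125 : Cert :=
  (.start 2330 (.br 0 1 (.dead 49) (.br 2 4 (.dead 20) (.br 5 32 (.dead 2) (.br 6 64 (.dead 6)
  (.br 7 128 (.full c12_126) (.dead 116)))))))

/-- Search certificate, step 124. -/
def c12_124 : Cert :=
  (.start 3460 (.br 0 1 (.dead 0) (.br 1 2 (.dead 0) (.br 3 8 (.full c12_125) (.dead 0)))))

/-- Search certificate, step 123. -/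
def c12_123 : Cert :=
  (.start 115 (.br 2 4 (.dead 14) (.br 3 8 (.dead 4) (.br 7 128 (.dead 12) (.br 8 256 (.dead 4)
  (.br 9 512 (.full c12_124) (.dead 67)))))))

/-- Search certificate, step 122. -/
def c12_122 : Cert :=
  (.start 1221 (.br 1 2 (.full c12_123) (.dead 0)))

/-- Search certificate, step 121. -/
def c12_121 : Cert :=
  (.start 2856 (.br 0 1 (.dead 0) (.br 1 2 (.dead 24) (.br 2 4 (.dead 0) (.br 6 64 (.dead 8) (.br
  4 16 (.full c12_122) (.dead 111)))))))

/-- Search certificate, step 120. -/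
def c12_120 : Cert :=
  (.start 1488 (.br 0 1 (.dead 0) (.br 1 2 (.full c12_121) (.dead 0))))

/-- Search certificate, step 119. -/
def c12_119 : Cert :=
  (.start 2601 (.br 1 2 (.dead 22) (.br 4 16 (.dead 49) (.br 6 64 (.dead 20) (.br 7 128 (.dead
  18) (.br 2 4 (.full c12_120) (.dead 91)))))))

/-- Search certificate, step 118. -/
def c12_118 : Cert :=
  (.start 376 (.br 0 1 (.dead 0) (.br 1 2 (.full c12_119) (.dead 0))))

/-- Search certificate, step 117. -/
def c12_117 : Cert :=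
  (.start 3716 (.br 1 2 (.dead 31) (.br 3 8 (.dead 77) (.br 4 16 (.dead 43) (.br 5 32 (.dead 31)
  (.br 0 1 (.full c12_118) (.dead 103)))))))

/-- Search certificate, step 116. -/
def c12_116 : Cert :=
  (.start 2416 (.br 0 1 (.dead 0) (.br 1 2 (.dead 0) (.br 2 4 (.full c12_117) (.dead 0)))))

/-- Search certificate, step 115. -/
def c12_115 : Cert :=
  (.start 1674 (.br 2 4 (.dead 16) (.br 4 16 (.dead 6) (.br 5 32 (.dead 35) (.br 6 64 (.dead 55)
  (.br 0 1 (.full c12_116) (.dead 106)))))))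

/-- Search certificate, step 114. -/
def c12_114 : Cert :=
  (.start 868 (.br 0 1 (.dead 0) (.br 1 2 (.full c12_115) (.dead 0))))

/-- Search certificate, step 113. -/
def c12_113 : Cert :=
  (.start 3097 (.br 1 2 (.dead 37) (.br 2 4 (.dead 31) (.br 5 32 (.dead 45) (.br 6 64 (.dead 31)
  (.br 7 128 (.full c12_114) (.dead 77)))))))

/-- Search certificate, step 112. -/
def c12_112 : Cert :=
  (.start 2195 (.br 2 4 (.full c12_113) (.dead 0)))

/-- Search certificate, step 111. -/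
def c12_111 : Cert :=
  (.start 1888 (.br 0 1 (.dead 6) (.br 1 2 (.dead 4) (.br 2 4 (.dead 47) (.br 4 16 (.dead 47)
  (.br 3 8 (.full c12_112) (.dead 97)))))))

/-- Search certificate, step 110. -/
def c12_110 : Cert :=
  (.start 1804 (.br 0 1 (.full c12_111) (.dead 0)))

/-- Search certificate, step 109. -/
def c12_109 : Cert :=
  (.start 2162 (.br 0 1 (.dead 0) (.br 2 4 (.dead 0) (.br 3 8 (.dead 4) (.br 8 256 (.dead 2) (.br
  7 128 (.full c12_110) (.dead 75)))))))

/-- Search certificate, step 108. -/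
def c12_108 : Cert :=
  (.start 1928 (.br 0 1 (.dead 0) (.br 1 2 (.dead 0) (.br 2 4 (.dead 0) (.br 4 16 (.full c12_109)
  (.dead 0))))))

/-- Search certificate, step 107. -/
def c12_107 : Cert :=
  (.start 2147 (.br 3 8 (.dead 10) (.br 4 16 (.dead 51) (.br 7 128 (.dead 17) (.br 8 256 (.dead
  0) (.br 2 4 (.full c12_108) (.dead 81)))))))

/-- Search certificate, step 106. -/
def c12_106 : Cert :=
  (.start 668 (.br 0 1 (.full c12_107) (.dead 0)))

/-- Search certificate, step 105. -/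
def c12_105 : Cert :=
  (.start 3362 (.br 0 1 (.dead 27) (.br 2 4 (.dead 19) (.br 3 8 (.dead 25) (.br 4 16 (.dead 10)
  (.br 6 64 (.full c12_106) (.dead 23)))))))

/-- Search certificate, step 104. -/
def c12_104 : Cert :=
  (.start 2126 (.br 0 1 (.dead 0) (.br 4 16 (.full c12_105) (.dead 0))))

/-- Search certificate, step 103. -/
def c12_103 : Cert :=
  (.start 1921 (.br 1 2 (.dead 11) (.br 2 4 (.dead 6) (.br 3 8 (.dead 2) (.br 4 16 (.dead 6) (.br
  5 32 (.full c12_104) (.dead 89)))))))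

/-- Search certificate, step 102. -/
def c12_102 : Cert :=
  (.start 2819 (.br 2 4 (.full c12_103) (.dead 0)))

/-- Search certificate, step 101. -/
def c12_101 : Cert :=
  (.start 1264 (.br 0 1 (.dead 7) (.br 1 2 (.dead 0) (.br 2 4 (.dead 0) (.br 8 256 (.dead 6) (.br
  3 8 (.full c12_102) (.dead 67)))))))

/-- Search certificate, step 100. -/
def c12_100 : Cert :=
  (.start 2952 (.br 0 1 (.full c12_101) (.dead 0)))

/-- Search certificate, step 99. -/
def c12_99 : Cert :=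
  (.start 1110 (.br 0 1 (.dead 17) (.br 3 8 (.dead 0) (.br 7 128 (.dead 0) (.br 8 256 (.dead 29)
  (.br 5 32 (.full c12_100) (.dead 67)))))))

/-- Search certificate, step 98. -/
def c12_98 : Cert :=
  (.start 1166 (.br 0 1 (.dead 0) (.br 4 16 (.full c12_99) (.dead 0))))

/-- Search certificate, step 97. -/
def c12_97 : Cert :=
  (.start 2881 (.br 1 2 (.dead 7) (.br 2 4 (.dead 3) (.br 3 8 (.dead 3) (.br 4 16 (.dead 11) (.br
  5 32 (.full c12_98) (.dead 83)))))))

/-- Search certificate, step 96. -/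
def c12_96 : Cert :=
  (.start 1428 (.br 0 1 (.full c12_97) (.dead 0)))

/-- Search certificate, step 95. -/
def c12_95 : Cert :=
  (.start 2602 (.br 0 1 (.dead 31) (.br 2 4 (.dead 11) (.br 4 16 (.dead 11) (.br 7 128 (.dead 13)
  (.br 6 64 (.full c12_96) (.dead 86)))))))

/-- Search certificate, step 94. -/
def c12_94 : Cert :=
  (.start 583 (.br 4 16 (.dead 14) (.br 5 32 (.dead 44) (.br 7 128 (.dead 4) (.br 8 256 (.dead 6)
  (.br 3 8 (.full c12_95) (.dead 62)))))))

/-- Search certificate, step 93. -/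
def c12_93 : Cert :=
  (.start 2888 (.br 0 1 (.dead 0) (.br 1 2 (.dead 0) (.br 2 4 (.full c12_94) (.dead 0)))))

/-- Search certificate, step 92. -/
def c12_92 : Cert :=
  (.start 1202 (.br 2 4 (.dead 6) (.br 3 8 (.dead 12) (.br 6 64 (.dead 34) (.br 8 256 (.dead 12)
  (.br 0 1 (.full c12_93) (.dead 62)))))))

/-- Search certificate, step 91. -/
def c12_91 : Cert :=
  (.start 913 (.br 1 2 (.full c12_92) (.dead 0)))

/-- Search certificate, step 90. -/
def c12_90 : Cert :=
  (.start 3116 (.br 0 1 (.dead 46) (.br 1 2 (.dead 4) (.br 4 16 (.dead 0) (.br 7 128 (.dead 2)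
  (.br 6 64 (.full c12_91) (.dead 52)))))))

/-- Search certificate, step 89. -/
def c12_89 : Cert :=
  (.start 2753 (.br 1 2 (.full c12_90) (.dead 0)))

/-- Search certificate, step 88. -/
def c12_88 : Cert :=
  (.start 1084 (.br 0 1 (.dead 6) (.br 1 2 (.dead 16) (.br 6 64 (.dead 6) (.br 7 128 (.dead 0)
  (.br 8 256 (.full c12_89) (.dead 75)))))))

/-- Search certificate, step 87. -/
def c12_87 : Cert :=
  (.start 1858 (.br 0 1 (.full c12_88) (.dead 0)))

/-- Search certificate, step 86. -/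
def c12_86 : Cert :=
  (.start 2232 (.br 0 1 (.dead 16) (.br 1 2 (.dead 22) (.br 6 64 (.dead 24) (.br 8 256 (.dead 24)
  (.br 2 4 (.full c12_87) (.dead 76)))))))

/-- Search certificate, step 85. -/
def c12_85 : Cert :=
  (.start 3236 (.br 0 1 (.dead 0) (.br 1 2 (.full c12_86) (.dead 0))))

/-- Search certificate, step 84. -/
def c12_84 : Cert :=
  (.start 793 (.br 1 2 (.dead 8) (.br 2 4 (.dead 26) (.br 5 32 (.dead 16) (.br 7 128 (.dead 52)
  (.br 6 64 (.full c12_85) (.dead 48)))))))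

/-- Search certificate, step 83. -/
def c12_83 : Cert :=
  (.start 2612 (.br 0 1 (.dead 0) (.br 1 2 (.full c12_84) (.dead 0))))

/-- Search certificate, step 82. -/
def c12_82 : Cert :=
  (.start 1353 (.br 1 2 (.dead 6) (.br 2 4 (.dead 0) (.br 4 16 (.dead 0) (.br 5 32 (.dead 16)
  (.br 7 128 (.full c12_83) (.dead 75)))))))

/-- Search certificate, step 81. -/
def c12_81 : Cert :=
  (.start 1116 (.br 0 1 (.full c12_82) (.dead 0)))

/-- Search certificate, step 80. -/
def c12_80 : Cert :=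
  (.start 2946 (.br 0 1 (.dead 2) (.br 2 4 (.dead 12) (.br 3 8 (.dead 40) (.br 4 16 (.dead 14)
  (.br 5 32 (.full c12_81) (.dead 66)))))))

/-- Search certificate, step 79. -/
def c12_79 : Cert :=
  (.start 1448 (.br 0 1 (.dead 0) (.br 1 2 (.full c12_80) (.dead 0))))

/-- Search certificate, step 78. -/
def c12_78 : Cert :=
  (.start 2629 (.br 1 2 (.dead 46) (.br 3 8 (.dead 26) (.br 5 32 (.dead 2) (.br 7 128 (.dead 2)
  (.br 4 16 (.full c12_79) (.dead 32)))))))

/-- Search certificate, step 77. -/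
def c12_77 : Cert :=
  (.start 3457 (.br 1 2 (.full c12_78) (.dead 0)))

/-- Search certificate, step 76. -/
def c12_76 : Cert :=
  (.start 628 (.br 0 1 (.dead 67) (.br 1 2 (.dead 48) (.br 7 128 (.dead 0) (.br 8 256 (.dead 12)
  (.br 3 8 (.full c12_77) (.dead 42)))))))

/-- Search certificate, step 75. -/
def c12_75 : Cert :=
  (.start 2784 (.br 0 1 (.dead 0) (.br 1 2 (.dead 0) (.br 2 4 (.full c12_76) (.dead 0)))))

/-- Search certificate, step 74. -/
def c12_74 : Cert :=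
  (.start 1291 (.br 2 4 (.dead 4) (.br 5 32 (.dead 8) (.br 6 64 (.dead 0) (.br 7 128 (.dead 40)
  (.br 4 16 (.full c12_75) (.dead 65)))))))

/-- Search certificate, step 73. -/
def c12_73 : Cert :=
  (.start 1712 (.br 0 1 (.dead 0) (.br 1 2 (.dead 0) (.br 2 4 (.full c12_74) (.dead 0)))))

/-- Search certificate, step 72. -/
def c12_72 : Cert :=
  (.start 2378 (.br 2 4 (.dead 2) (.br 4 16 (.dead 22) (.br 5 32 (.dead 10) (.br 7 128 (.dead 4)
  (.br 0 1 (.full c12_73) (.dead 63)))))))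

/-- Search certificate, step 71. -/
def c12_71 : Cert :=
  (.start 2512 (.br 0 1 (.full c12_72) (.dead 0)))

/-- Search certificate, step 70. -/
def c12_70 : Cert :=
  (.start 1580 (.br 0 1 (.dead 2) (.br 4 16 (.dead 2) (.br 6 64 (.dead 52) (.br 7 128 (.dead 14)
  (.br 1 2 (.full c12_71) (.dead 32)))))))

/-- Search certificate, step 69. -/
def c12_69 : Cert :=
  (.start 1356 (.br 0 1 (.dead 0) (.br 1 2 (.full c12_70) (.dead 0))))

/-- Search certificate, step 68. -/
def c12_68 : Cert :=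
  (.start 2609 (.br 1 2 (.dead 14) (.br 2 4 (.dead 52) (.br 3 8 (.dead 0) (.br 6 64 (.dead 34)
  (.br 7 128 (.full c12_69) (.dead 32)))))))

/-- Search certificate, step 67. -/
def c12_67 : Cert :=
  (.start 1592 (.br 0 1 (.full c12_68) (.dead 0)))

/-- Search certificate, step 66. -/
def c12_66 : Cert :=
  (.start 2246 (.br 0 1 (.dead 14) (.br 3 8 (.dead 14) (.br 4 16 (.dead 38) (.br 5 32 (.dead 30)
  (.br 8 256 (.full c12_67) (.dead 34)))))))

/-- Search certificate, step 65. -/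
def c12_65 : Cert :=
  (.start 1129 (.br 1 2 (.full c12_66) (.dead 0)))

/-- Search certificate, step 64. -/
def c12_64 : Cert :=
  (.start 2948 (.br 0 1 (.dead 4) (.br 1 2 (.dead 24) (.br 3 8 (.dead 8) (.br 5 32 (.dead 4) (.br
  4 16 (.full c12_65) (.dead 50)))))))

/-- Search certificate, step 63. -/
def c12_63 : Cert :=
  (.start 1872 (.br 0 1 (.dead 0) (.br 1 2 (.dead 0) (.br 2 4 (.full c12_64) (.dead 0)))))

/-- Search certificate, step 62. -/
def c12_62 : Cert :=
  (.start 2218 (.br 2 4 (.dead 22) (.br 4 16 (.dead 14) (.br 6 64 (.dead 0) (.br 8 256 (.dead 0)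
  (.br 0 1 (.full c12_63) (.dead 52)))))))

/-- Search certificate, step 61. -/
def c12_61 : Cert :=
  (.start 2528 (.br 0 1 (.dead 0) (.br 1 2 (.dead 0) (.br 2 4 (.dead 0) (.br 3 8 (.full c12_62)
  (.dead 0))))))

/-- Search certificate, step 60. -/
def c12_60 : Cert :=
  (.start 1555 (.br 3 8 (.dead 0) (.br 5 32 (.dead 8) (.br 6 64 (.dead 0) (.br 7 128 (.dead 30)
  (.br 2 4 (.full c12_61) (.dead 24)))))))

/-- Search certificate, step 59. -/
def c12_59 : Cert :=
  (.start 2468 (.br 0 1 (.full c12_60) (.dead 0)))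

/-- Search certificate, step 58. -/
def c12_58 : Cert :=
  (.start 1610 (.br 0 1 (.dead 51) (.br 2 4 (.dead 26) (.br 5 32 (.dead 0) (.br 7 128 (.dead 0)
  (.br 4 16 (.full c12_59) (.dead 49)))))))

/-- Search certificate, step 57. -/
def c12_57 : Cert :=
  (.start 1760 (.br 0 1 (.dead 0) (.br 1 2 (.full c12_58) (.dead 0))))

/-- Search certificate, step 56. -/
def c12_56 : Cert :=
  (.start 2329 (.br 1 2 (.dead 2) (.br 5 32 (.dead 24) (.br 6 64 (.dead 6) (.br 7 128 (.dead 24)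
  (.br 2 4 (.full c12_57) (.dead 20)))))))

/-- Search certificate, step 55. -/
def c12_55 : Cert :=
  (.start 3154 (.br 0 1 (.full c12_56) (.dead 0)))

/-- Search certificate, step 54. -/
def c12_54 : Cert :=
  (.start 932 (.br 0 1 (.dead 4) (.br 1 2 (.dead 4) (.br 4 16 (.dead 10) (.br 6 64 (.dead 0) (.br
  3 8 (.full c12_55) (.dead 16)))))))

/-- Search certificate, step 53. -/
def c12_53 : Cert :=
  (.start 2585 (.br 1 2 (.full c12_54) (.dead 0)))

/-- Search certificate, step 52. -/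
def c12_52 : Cert :=
  (.start 1380 (.br 0 1 (.dead 6) (.br 1 2 (.dead 41) (.br 3 8 (.dead 22) (.br 4 16 (.dead 12)
  (.br 7 128 (.full c12_53) (.dead 14)))))))

/-- Search certificate, step 51. -/
def c12_51 : Cert :=
  (.start 1840 (.br 0 1 (.dead 0) (.br 1 2 (.full c12_52) (.dead 0))))

/-- Search certificate, step 50. -/
def c12_50 : Cert :=
  (.start 2252 (.br 1 2 (.dead 10) (.br 4 16 (.dead 24) (.br 5 32 (.dead 14) (.br 8 256 (.dead
  24) (.br 0 1 (.full c12_51) (.dead 32)))))))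

/-- Search certificate, step 49. -/
def c12_49 : Cert :=
  (.start 3400 (.br 0 1 (.dead 0) (.br 1 2 (.dead 0) (.br 2 4 (.dead 0) (.br 4 16 (.full c12_50)
  (.dead 0))))))

/-- Search certificate, step 48. -/
def c12_48 : Cert :=
  (.start 675 (.br 3 8 (.dead 2) (.br 4 16 (.dead 2) (.br 6 64 (.dead 26) (.br 8 256 (.dead 28)
  (.br 2 4 (.full c12_49) (.dead 22)))))))

/-- Search certificate, step 47. -/
def c12_47 : Cert :=
  (.start 3128 (.br 0 1 (.dead 0) (.br 1 2 (.full c12_48) (.dead 0))))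

/-- Search certificate, step 46. -/
def c12_46 : Cert :=
  (.start 453 (.br 1 2 (.dead 12) (.br 3 8 (.dead 12) (.br 4 16 (.dead 20) (.br 5 32 (.dead 16)
  (.br 9 512 (.full c12_47) (.dead 0)))))))

/-- Search certificate, step 45. -/
def c12_45 : Cert :=
  (.start 3396 (.br 0 1 (.full c12_46) (.dead 0)))

/-- Search certificate, step 44. -/
def c12_44 : Cert :=
  (.start 682 (.br 0 1 (.dead 22) (.br 2 4 (.dead 4) (.br 6 64 (.dead 8) (.br 8 256 (.dead 24)
  (.br 4 16 (.full c12_45) (.dead 34)))))))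

/-- Search certificate, step 43. -/
def c12_43 : Cert :=
  (.start 3083 (.br 2 4 (.full c12_44) (.dead 0)))

/-- Search certificate, step 42. -/
def c12_42 : Cert :=
  (.start 752 (.br 0 1 (.dead 20) (.br 1 2 (.dead 14) (.br 2 4 (.dead 14) (.br 3 8 (.dead 20)
  (.br 8 256 (.full c12_43) (.dead 8)))))))

/-- Search certificate, step 41. -/
def c12_41 : Cert :=
  (.start 1196 (.br 0 1 (.full c12_42) (.dead 0)))

/-- Search certificate, step 40. -/
def c12_40 : Cert :=
  (.start 2834 (.br 0 1 (.dead 4) (.br 2 4 (.dead 16) (.br 3 8 (.dead 16) (.br 5 32 (.dead 22)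
  (.br 6 64 (.full c12_41) (.dead 10)))))))

/-- Search certificate, step 39. -/
def c12_39 : Cert :=
  (.start 2700 (.br 0 1 (.dead 0) (.br 1 2 (.full c12_40) (.dead 0))))

/-- Search certificate, step 38. -/
def c12_38 : Cert :=
  (.start 1329 (.br 1 2 (.dead 20) (.br 2 4 (.dead 22) (.br 3 8 (.dead 6) (.br 7 128 (.dead 6)
  (.br 6 64 (.full c12_39) (.dead 2)))))))

/-- Search certificate, step 37. -/
def c12_37 : Cert :=
  (.start 3872 (.br 0 1 (.dead 0) (.br 1 2 (.dead 0) (.br 2 4 (.full c12_38) (.dead 0)))))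

/-- Search certificate, step 36. -/
def c12_36 : Cert :=
  (.start 203 (.br 2 4 (.dead 0) (.br 5 32 (.dead 0) (.br 8 256 (.dead 2) (.br 9 512 (.dead 14)
  (.br 4 16 (.full c12_37) (.dead 28)))))))

/-- Search certificate, step 35. -/
def c12_35 : Cert :=
  (.start 230 (.br 0 1 (.dead 0) (.br 3 8 (.full c12_36) (.dead 0))))

/-- Search certificate, step 34. -/
def c12_34 : Cert :=
  (.start 3856 (.br 1 2 (.dead 4) (.br 2 4 (.dead 12) (.br 3 8 (.dead 21) (.br 5 32 (.dead 0)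
  (.br 0 1 (.full c12_35) (.dead 20)))))))

/-- Search certificate, step 33. -/
def c12_33 : Cert :=
  (.start 397 (.br 1 2 (.full c12_34) (.dead 0)))

/-- Search certificate, step 32. -/
def c12_32 : Cert :=
  (.start 3680 (.br 0 1 (.dead 6) (.br 1 2 (.dead 0) (.br 2 4 (.dead 0) (.br 3 8 (.dead 22) (.br
  4 16 (.full c12_33) (.dead 18)))))))

/-- Search certificate, step 31. -/
def c12_31 : Cert :=
  (.start 433 (.br 1 2 (.dead 0) (.br 2 4 (.dead 0) (.br 3 8 (.full c12_32) (.dead 0)))))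

/-- Search certificate, step 30. -/
def c12_30 : Cert :=
  (.start 3650 (.br 0 1 (.dead 4) (.br 3 8 (.dead 21) (.br 4 16 (.dead 0) (.br 5 32 (.dead 4)
  (.br 2 4 (.full c12_31) (.dead 16)))))))

/-- Search certificate, step 29. -/
def c12_29 : Cert :=
  (.start 364 (.br 0 1 (.full c12_30) (.dead 0)))

/-- Search certificate, step 28. -/
def c12_28 : Cert :=
  (.start 3602 (.br 0 1 (.dead 2) (.br 2 4 (.dead 6) (.br 3 8 (.dead 15) (.br 5 32 (.dead 2) (.br
  8 256 (.dead 6) (.br 7 128 (.full (.ref 0)) (.br 6 64 (.full (.start 2249 (.br 1 2 (.dead 21)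
  (.br 4 16 (.dead 18) (.br 5 32 (.dead 5) (.br 9 512 (.dead 7) (.br 10 1024 (.dead 5) (.br 8 256
  (.full (.start 1586 (.br 0 1 (.dead 0) (.br 2 4 (.full (.start 2582 (.br 3 8 (.dead 7) (.br 5
  32 (.dead 0) (.br 6 64 (.dead 2) (.br 7 128 (.dead 3) (.br 0 1 (.full (.start 1504 (.br 0 1
  (.dead 0) (.br 1 2 (.dead 0) (.br 2 4 (.dead 0) (.br 3 8 (.full (.start 3340 (.br 0 1 (.dead 5)
  (.br 1 2 (.dead 11) (.br 4 16 (.dead 11) (.br 5 32 (.dead 5) (.br 9 512 (.dead 20) (.br 6 64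
  (.full (.start 690 (.br 0 1 (.full (.start 611 (.br 3 8 (.dead 13) (.br 4 16 (.dead 0) (.br 7
  128 (.dead 0) (.br 8 256 (.dead 15) (.br 2 4 (.full (.start 3472 (.br 0 1 (.dead 0) (.br 1 2
  (.dead 0) (.br 2 4 (.dead 0) (.br 3 8 (.full (.start 1474 (.br 0 1 (.dead 24) (.br 3 8 (.dead
  4) (.br 5 32 (.dead 4) (.br 9 512 (.dead 21) (.br 11 2048 (.dead 23) (.br 4 16 (.full (.swap 6
  11 (.swap 7 10 (.swap 8 9 (.swap 10 11 (.ref 0)))))) (.br 2 4 (.full (.start 1420 (.br 0 1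
  (.dead 9) (.br 1 2 (.dead 0) (.br 4 16 (.dead 1) (.br 5 32 (.dead 5) (.br 9 512 (.dead 20)
  (.dead 3)))))))) .small))))))))) (.dead 0))))))) (.dead 9)))))))) (.dead 0)))) (.br 7 128
  (.full (.start 602 (.br 0 1 (.dead 0) (.br 2 4 (.dead 6) (.br 5 32 (.dead 0) (.br 7 128 (.dead
  6) (.br 8 256 (.dead 10) (.dead 5)))))))) .small))))))))) (.dead 0))))))) (.dead 9))))))))
  (.dead 0))))) (.br 2 4 (.full (.start 850 (.br 0 1 (.dead 20) (.br 2 4 (.dead 2) (.br 3 8
  (.dead 6) (.br 5 32 (.dead 0) (.br 7 128 (.dead 2) (.dead 1)))))))) .small)))))))))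
  .small))))))))

/-- Search certificate, step 27. -/
def c12_27 : Cert :=
  (.start 3368 (.br 0 1 (.full c12_28) (.dead 0)))

/-- Search certificate, step 26. -/
def c12_26 : Cert :=
  (.start 214 (.br 0 1 (.dead 16) (.br 3 8 (.dead 0) (.br 5 32 (.dead 17) (.br 8 256 (.dead 0)
  (.br 9 512 (.full c12_27) (.dead 6)))))))

/-- Search certificate, step 25. -/
def c12_25 : Cert :=
  (.start 3618 (.br 0 1 (.full c12_26) (.dead 0)))

/-- Search certificate, step 24. -/
def c12_24 : Cert :=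
  (.start 468 (.br 0 1 (.dead 14) (.br 1 2 (.dead 14) (.br 5 32 (.dead 15) (.br 10 1024 (.dead 4)
  (.br 11 2048 (.dead 4) (.br 9 512 (.full (.start 2836 (.br 0 1 (.dead 17) (.br 1 2 (.dead 1)
  (.br 3 8 (.dead 1) (.br 5 32 (.dead 17) (.br 10 1024 (.dead 3) (.dead 0)))))))) (.br 3 8 (.full
  c12_25) .small))))))))

/-- Search certificate, step 23. -/
def c12_23 : Cert :=
  (.start 3169 (.br 1 2 (.dead 0) (.br 2 4 (.dead 0) (.br 3 8 (.dead 0) (.br 4 16 (.dead 0) (.br
  7 128 (.full c12_24) (.dead 0)))))))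

/-- Search certificate, step 22. -/
def c12_22 : Cert :=
  (.start 790 (.br 0 1 (.dead 12) (.br 5 32 (.dead 14) (.br 6 64 (.dead 12) (.br 7 128 (.dead 15)
  (.br 3 8 (.full c12_23) (.dead 0)))))))

/-- Search certificate, step 21. -/
def c12_21 : Cert :=
  (.start 3348 (.br 0 1 (.dead 0) (.br 1 2 (.full c12_22) (.dead 0))))

/-- Search certificate, step 20. -/
def c12_20 : Cert :=
  (.start 744 (.br 1 2 (.dead 4) (.br 2 4 (.dead 2) (.br 4 16 (.dead 9) (.br 8 256 (.dead 4) (.br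
  0 1 (.full c12_21) (.dead 10)))))))

/-- Search certificate, step 19. -/
def c12_19 : Cert :=
  (.start 3280 (.br 0 1 (.dead 0) (.br 1 2 (.dead 0) (.br 2 4 (.full c12_20) (.dead 0)))))

/-- Search certificate, step 18. -/
def c12_18 : Cert :=
  (.start 803 (.br 2 4 (.dead 7) (.br 4 16 (.dead 0) (.br 6 64 (.dead 5) (.br 7 128 (.dead 5)
  (.br 10 1024 (.dead 7) (.br 3 8 (.full c12_19) (.dead 0))))))))

/-- Search certificate, step 17. -/
def c12_17 : Cert :=
  (.start 2354 (.br 0 1 (.full c12_18) (.dead 0)))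

/-- Search certificate, step 16. -/
def c12_16 : Cert :=
  (.start 1736 (.br 0 1 (.dead 9) (.br 1 2 (.dead 0) (.br 4 16 (.dead 5) (.br 5 32 (.dead 6) (.br
  2 4 (.full c12_17) (.dead 2)))))))

/-- Search certificate, step 15. -/
def c12_15 : Cert :=
  (.start 842 (.br 0 1 (.dead 0) (.br 2 4 (.dead 0) (.br 4 16 (.dead 0) (.br 5 32 (.dead 0) (.br
  7 128 (.full c12_16) (.dead 0)))))))

/-- Search certificate, step 14. -/
def c12_14 : Cert :=
  (.start 1077 (.br 1 2 (.dead 0) (.br 3 8 (.dead 0) (.br 6 64 (.dead 5) (.br 7 128 (.dead 5)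
  (.br 8 256 (.dead 3) (.br 9 512 (.dead 6) (.br 11 2048 (.full c12_15) .small))))))))

/-- Search certificate, step 13. -/
def c12_13 : Cert :=
  (.start 3520 (.br 0 1 (.dead 12) (.br 1 2 (.dead 5) (.br 2 4 (.dead 12) (.br 3 8 (.dead 5) (.br
  4 16 (.dead 12) (.br 5 32 (.dead 12) (.br 9 512 (.full c12_14) .small))))))))

/-- Search certificate, step 12. -/
def c12_12 : Cert :=
  (.start 355 (.br 2 4 (.dead 0) (.br 3 8 (.dead 0) (.br 4 16 (.dead 0) (.br 7 128 (.full c12_13)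
  (.dead 0))))))

/-- Search certificate, step 11. -/
def c12_11 : Cert :=
  (.start 3608 (.br 0 1 (.dead 4) (.br 1 2 (.dead 2) (.br 5 32 (.dead 1) (.br 6 64 (.dead 0) (.br
  7 128 (.dead 0) (.br 2 4 (.full c12_12) (.dead 2))))))))

/-- Search certificate, step 10. -/
def c12_10 : Cert :=
  (.start 2712 (.br 0 1 (.dead 4) (.br 1 2 (.dead 4) (.br 2 4 (.dead 4) (.br 5 32 (.dead 0) (.br
  6 64 (.full c12_11) (.dead 4)))))))

/-- Search certificate, step 9. -/
def c12_9 : Cert :=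
  (.start 3744 (.br 0 1 (.dead 6) (.br 1 2 (.dead 6) (.br 2 4 (.dead 6) (.br 3 8 (.full c12_10)
  (.dead 6))))))

/-- Search certificate, step 8. -/
def c12_8 : Cert :=
  (.start 3848 (.br 0 1 (.dead 1) (.br 1 2 (.full c12_9) (.dead 6))))

/-- Search certificate, step 7. -/
def c12_7 : Cert :=
  (.start 3272 (.br 0 1 (.dead 0) (.br 1 2 (.full c12_8) (.dead 3))))

/-- Search certificate, step 6. -/
def c12_6 : Cert :=
  (.start 3656 (.br 0 1 (.full c12_7) (.dead 1)))

/-- Search certificate, step 5. -/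
def c12_5 : Cert :=
  (.start 295 (.br 3 8 (.dead 4) (.br 4 16 (.dead 0) (.br 6 64 (.dead 2) (.br 7 128 (.dead 0)
  (.br 9 512 (.dead 1) (.br 10 3072 (.full c12_6) .small)))))))

/-- Search certificate, step 4. -/
def c12_4 : Cert :=
  (.start 310 (.br 0 1 (.dead 0) (.br 3 8 (.dead 3) (.br 6 64 (.dead 1) (.br 9 512 (.dead 0) (.br
  7 128 (.full (.ref 0)) (.br 10 3072 (.full (.start 118 (.br 0 1 (.dead 2) (.br 3 8 (.dead 4)
  (.br 7 128 (.dead 3) (.br 8 256 (.dead 0) (.br 10 1024 (.dead 0) (.br 9 512 (.full (.swap 6 8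
  (.swap 7 9 (.ref 0)))) (.br 11 2048 (.full (.start 2101 (.br 1 2 (.dead 0) (.br 3 8 (.dead 5)
  (.br 6 64 (.dead 0) (.br 7 128 (.dead 4) (.br 8 256 (.dead 2) (.br 9 512 (.dead 2) (.br 10 1024
  (.full (.start 2071 (.br 3 8 (.dead 6) (.br 5 32 (.dead 0) (.br 6 64 (.dead 1) (.br 8 256
  (.dead 4) (.br 10 1024 (.dead 0) (.br 9 512 (.full (.start 2760 (.br 0 1 (.full (.start 3266
  (.br 0 1 (.dead 5) (.br 2 4 (.dead 5) (.br 3 8 (.full (.start 1928 (.br 0 1 (.full (.start 3848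
  (.br 0 1 (.dead 0) (.br 1 2 (.full (.start 968 (.br 0 1 (.dead 1) (.br 1 2 (.full (.start 3744
  (.br 0 1 (.dead 10) (.br 1 2 (.dead 10) (.br 2 4 (.dead 10) (.br 3 8 (.full (.start 1504 (.br 0
  1 (.dead 6) (.br 1 2 (.dead 6) (.br 2 4 (.dead 6) (.br 3 8 (.full (.start 1047 (.br 3 8 (.dead
  14) (.br 5 32 (.dead 2) (.br 6 64 (.dead 1) (.br 8 256 (.dead 1) (.br 7 128 (.full (.start 1322
  (.br 2 4 (.dead 7) (.br 4 16 (.dead 7) (.br 6 64 (.dead 1) (.br 7 128 (.dead 1) (.br 0 1 (.full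
  (.start 2912 (.br 0 1 (.dead 1) (.br 1 2 (.dead 1) (.br 2 4 (.dead 1) (.br 3 8 (.full (.start
  809 (.br 1 2 (.dead 1) (.br 2 4 (.dead 8) (.br 4 16 (.dead 8) (.br 6 64 (.dead 0) (.br 11 2048
  (.dead 0) (.dead 7)))))))) (.dead 1))))))) (.dead 4)))))))) (.dead 0)))))))) (.dead 6)))))))
  (.dead 10))))))) (.dead 5))))) (.dead 9))))) (.dead 4)))) (.dead 5)))))) (.dead 3)))) (.br 7
  128 (.full (.swap 6 7 (.swap 8 11 (.swap 9 10 (.ref 0))))) .small))))))))) .small)))))))))
  .small))))))))) .small)))))))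

/-- Search certificate, step 3. -/
def c12_3 : Cert :=
  (.start 309 (.br 1 2 (.dead 0) (.br 3 8 (.dead 2) (.br 6 64 (.dead 0) (.br 7 128 (.dead 1) (.br
  9 3584 (.full c12_4) .small))))))

/-- Search certificate, step 2. -/
def c12_2 : Cert :=
  (.start 87 (.br 3 8 (.dead 1) (.br 5 32 (.dead 0) (.br 7 128 (.dead 0) (.br 8 3840 (.full
  c12_3) .small)))))

/-- Search certificate, step 1. -/
def c12_1 : Cert :=
  (.start 117 (.br 1 2 (.dead 0) (.br 3 8 (.dead 0) (.br 7 3968 (.full c12_2) .small))))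

/-- Search certificate, step 0. -/
def c12_0 : Cert :=
  (.br 5 4064 (.full c12_1) .small)

/-- The blocks found by the search. -/
def tg12 : List ℕ :=
  [3504, 1926, 2169, 1745, 2350, 1637, 2458, 3468, 627, 1223, 2872, 1490, 2605, 378, 3717, 2420,
  1675, 870, 3225, 2199, 1896, 1805, 2290, 1944, 2151, 669, 3426, 2142, 1953, 2823, 1272, 2953,
  1142, 1182, 2913, 1429, 2666, 591, 2892, 1203, 915, 3180, 2755, 1340, 1859, 2236, 3238, 857,
  2614, 1481, 1117, 2978, 1450, 2645, 3459, 636, 2788, 1307, 1716, 2379, 2513, 1582, 1358, 2737,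
  1593, 2502, 1131, 2964, 1876, 2219, 2536, 1559, 2469, 1626, 1762, 2333, 3155, 940, 2587, 1508,
  1842, 2253, 3416, 679, 3130, 965, 3397, 698, 3087, 1008, 1197, 2898, 2702, 1393, 3876, 219,
  238, 3857, 399, 3696, 441, 3654, 365, 3730, 3369, 726, 3619, 476, 3297, 798, 3350, 745, 3284,
  811, 2355, 1740, 970, 3125, 4032, 483, 3612, 2776, 3752, 3850, 3274, 3657, 1319, 438, 821, 343,
  245, 63]

theorem check12 : checkAll 12 5 6 5 29
  [([3730, 3369, 726, 3619, 476, 3297, 798, 3350, 745, 3284, 811, 2355, 1740, 970, 3125, 4032,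
  483, 3612, 2776, 3752, 3850, 3274, 3657, 1319, 438, 821, 343, 245, 63], c12_29), ([438, 821,
  343, 245, 63], c12_5)]
  [tg12] c12_0 31 0 = true := by
  decide +kernel

/-- Rigidity certificate. -/
def rc12 : RCert :=
  (.inj 0 0 (.inj 1 1 (.inj 2 2 (.inj 3 3 (.inj 4 4 (.blk 131 131 31 (.br 6 64 (.inj 6 6 (.blk 2
  2 121 (.blk 4 4 2094 (.blk 6 6 2330 (.blk 0 0 2480 .done))))) (.br 6 128 (.inj 6 7 (.blk 2 100
  121 (.blk 0 99 1456 (.dead 9)))) (.br 6 256 (.inj 6 8 (.blk 2 100 121 (.blk 0 99 1456 (.dead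
  9)))) (.br 6 512 (.inj 6 9 (.blk 2 64 121 (.blk 3 60 1681 (.dead 6)))) (.blk 13 84 122 (.blk 0
  89 3248 (.dead 8)))))))))))))

theorem rcheck12 : rcheck 12 5 tg12 rc12 (al0 12 5) = true := by
  decide +kernel

theorem nodup12 : tg12.Nodup ∧ tg12.length = 132 ∧ ∀ c ∈ tg12, c < 2 ^ 12 := by
  decide +kernel

end Cfsg.Lib.Steiner
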