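import Mathlib
import Cfsg.Agent.Lib.Steiner.Rigid

/-! Generated certificates for the Steiner system on 22 points. -/

set_option autoImplicit false
set_option maxRecDepth 100000

namespace Cfsg.Lib.Steiner

/-- Search certificate, step 10. -/
def c22_10 : Cert :=
  (.start 8257 (.br 1 2 (.dead 6) (.br 2 4 (.dead 9) (.br 3 8 (.dead 4) (.br 4 16 (.dead 9) (.br
  5 32 (.dead 0) (.br 8 256 (.dead 6) (.br 9 512 (.dead 4) (.br 7 128 (.br 10 1024 (.dead 4) (.br
  11 2048 (.dead 7) (.br 12 4096 (.dead 6) (.br 14 16384 (.dead 5) (.br 15 32768 (.dead 0) (.br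
  16 65536 (.dead 0) (.br 17 131072 (.br 18 262144 (.dead 2) (.br 19 524288 (.dead 1) (.br 20
  1048576 (.dead 0) (.br 21 2097152 (.full (.ref 0)) .small)))) (.dead 3)))))))) (.dead
  8))))))))))

/-- Search certificate, step 9. -/
def c22_9 : Cert :=
  (.start 65569 (.br 1 2 (.dead 1) (.br 2 4 (.dead 0) (.br 4 16 (.dead 6) (.br 7 128 (.dead 1)
  (.br 8 256 (.dead 5) (.br 9 512 (.dead 0) (.br 10 1024 (.dead 6) (.br 11 2048 (.dead 6) (.br 12
  4096 (.dead 2) (.br 13 8192 (.dead 5) (.br 14 16384 (.dead 2) (.br 3 8 (.dead 4) (.br 6 64 (.br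
  15 32768 (.br 17 131072 (.dead 0) (.br 18 262144 (.dead 1) (.br 19 524288 (.dead 0) (.br 20
  3145728 (.full c22_10) .small)))) (.dead 3)) (.dead 7)))))))))))))))

/-- Search certificate, step 8. -/
def c22_8 : Cert :=
  (.start 37 (.br 1 2 (.dead 4) (.br 3 8 (.dead 7) (.br 4 16 (.dead 5) (.br 6 64 (.dead 7) (.br 7
  128 (.dead 5) (.br 8 256 (.dead 4) (.br 9 512 (.br 10 1024 (.dead 2) (.br 11 2048 (.dead 5)
  (.br 12 4096 (.dead 4) (.br 13 8192 (.dead 2) (.br 14 16384 (.dead 3) (.br 15 32768 (.dead 2)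
  (.br 16 65536 (.dead 0) (.br 17 131072 (.br 18 262144 (.dead 0) (.br 19 3670016 (.full c22_9)
  .small)) (.dead 1))))))))) (.dead 6)))))))))

/-- Search certificate, step 7. -/
def c22_7 : Cert :=
  (.start 515 (.br 2 4 (.dead 6) (.br 3 8 (.dead 1) (.br 4 16 (.dead 6) (.br 5 32 (.dead 3) (.br
  6 64 (.dead 6) (.br 8 256 (.dead 3) (.br 7 128 (.br 10 1024 (.dead 1) (.br 11 2048 (.dead 4)
  (.br 12 4096 (.dead 3) (.br 13 8192 (.dead 1) (.br 14 16384 (.dead 2) (.br 15 32768 (.dead 1)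
  (.br 16 196608 (.br 17 131072 (.dead 0) (.br 18 3932160 (.full c22_8) .small)) (.dead 0))))))))
  (.dead 5)))))))))

/-- Search certificate, step 6. -/
def c22_6 : Cert :=
  (.start 4256 (.br 0 1 (.dead 2) (.br 1 2 (.dead 2) (.br 3 8 (.dead 4) (.br 4 16 (.dead 3) (.br
  6 64 (.dead 4) (.br 2 4 (.dead 5) (.br 8 256 (.dead 2) (.br 9 512 (.dead 4) (.br 10 1024 (.dead
  3) (.br 11 2048 (.dead 3) (.br 13 8192 (.dead 2) (.br 14 16384 (.br 15 32768 (.dead 0) (.br 16
  4128768 (.br 17 4063232 (.full c22_7) .small) .small)) (.dead 1))))))))))))))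

/-- Search certificate, step 5. -/
def c22_5 : Cert :=
  (.start 1033 (.br 1 2 (.dead 4) (.br 2 4 (.dead 4) (.br 4 16 (.dead 0) (.br 5 32 (.dead 2) (.br
  6 64 (.dead 4) (.br 7 128 (.dead 2) (.br 8 256 (.dead 0) (.br 9 512 (.br 11 2048 (.dead 2) (.br
  12 4096 (.dead 0) (.br 13 8192 (.br 14 16384 (.dead 0) (.br 15 4161536 (.full c22_6) .small))
  (.dead 1)))) (.dead 3))))))))))

/-- Search certificate, step 4. -/
def c22_4 : Cert :=
  (.start 280 (.br 0 1 (.dead 3) (.br 1 2 (.dead 3) (.br 2 4 (.dead 3) (.br 5 32 (.dead 2) (.br 6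
  64 (.dead 2) (.br 7 128 (.dead 2) (.br 9 512 (.dead 2) (.br 10 3072 (.br 11 2048 (.dead 1) (.br
  12 12288 (.br 13 8192 (.dead 0) (.br 14 4177920 (.full c22_5) .small)) (.dead 0))) (.dead
  1))))))))))

/-- Search certificate, step 3. -/
def c22_3 : Cert :=
  (.start 35 (.br 2 4 (.dead 2) (.br 3 8 (.dead 2) (.br 4 16 (.dead 0) (.br 6 64 (.dead 2) (.br 7
  128 (.dead 0) (.br 8 768 (.br 9 512 (.dead 1) (.br 10 3072 (.dead 0) (.br 12 4190208 (.br 13
  4186112 (.full c22_4) .small) .small))) (.dead 1))))))))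

/-- Search certificate, step 2. -/
def c22_2 : Cert :=
  (.start 49 (.br 1 2 (.dead 1) (.br 2 4 (.dead 1) (.br 3 8 (.dead 1) (.br 6 64 (.dead 1) (.br 7
  896 (.br 8 768 (.dead 0) (.br 10 4193280 (.br 11 4192256 (.full c22_3) .small) .small)) (.dead
  0)))))))

/-- Search certificate, step 1. -/
def c22_1 : Cert :=
  (.start 104 (.br 0 1 (.dead 0) (.br 1 2 (.dead 0) (.br 2 4 (.dead 0) (.br 4 16 (.dead 0) (.br 7
  4194176 (.br 8 4194048 (.br 9 4193792 (.full c22_2) .small) .small) .small))))))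

/-- Search certificate, step 0. -/
def c22_0 : Cert :=
  (.br 6 4194240 (.full c22_1) .small)

/-- The blocks found by the search. -/
def tg22 : List ℕ :=
  [2236609, 1146977, 655909, 328323, 217248, 42505, 21784, 12579, 3249, 1000, 95]

theorem check22 : checkAll 22 3 6 6 5
  []
  [tg22] c22_0 31 32 = true := by
  decide +kernel

/-- Rigidity certificate. -/
def rc22 : RCert :=
  (.inj 0 0 (.inj 1 1 (.inj 2 2 (.inj 3 3 (.inj 4 4 (.inj 5 5 (.blk 2 2 37 (.blk 7 7 35 (.blk 8 8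
  49 (.blk 10 10 7 (.blk 1 1 97 (.blk 9 9 104 (.blk 0 0 193 (.blk 3 3 131 (.blk 5 5 521
  .done)))))))))))))))

theorem rcheck22 : rcheck 22 3 tg22 rc22 (al0 22 6) = true := by
  decide +kernel

/-- An extra parity check. -/
def u22 : ℕ := 295975

/-- Columns of the parity check matrix. -/
def col22 (p : ℕ) : ℕ :=
  (14481081995588200507792906573752873437672166927287851367467984638172560694111 >>> (12 * p)) % 4096

theorem colsOK22 : colsOK 22 (u22 :: tg22) col22 = true := by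
  decide +kernel

theorem avoidAll22 : avoidAll col22 5 22 = true := by
  decide +kernel

end Cfsg.Lib.Steiner
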