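import Mathlib
import Cfsg.Agent.Lib.Steiner.Rigid

/-! Generated certificates for the Steiner system on 23 points. -/

set_option autoImplicit false
set_option maxRecDepth 100000

namespace Cfsg.Lib.Steiner

/-- Search certificate, step 11. -/
def c23_11 : Cert :=
  (.start 2101536 (.br 0 1 (.dead 0) (.br 1 2 (.dead 8) (.br 2 4 (.dead 8) (.br 3 8 (.dead 0)
  (.br 4 16 (.dead 4) (.br 7 128 (.dead 0) (.br 6 64 (.br 10 1024 (.dead 1) (.br 9 512 (.br 11
  2048 (.dead 6) (.br 13 8192 (.dead 2) (.br 14 16384 (.dead 7) (.br 15 32768 (.dead 0) (.br 16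
  65536 (.dead 2) (.br 17 131072 (.dead 4) (.br 18 262144 (.dead 2) (.br 19 524288 (.dead 2) (.br
  20 1048576 (.dead 1) (.br 22 4194304 (.full (.ref 0)) .small)))))))))) (.dead 9))) (.dead
  10)))))))))

/-- Search certificate, step 10. -/
def c23_10 : Cert :=
  (.start 297 (.br 1 2 (.dead 7) (.br 2 4 (.dead 7) (.br 4 16 (.dead 6) (.br 6 64 (.dead 6) (.br
  7 128 (.br 9 512 (.dead 8) (.br 10 1024 (.dead 8) (.br 11 2048 (.dead 7) (.br 12 4096 (.dead 7)
  (.br 13 8192 (.dead 6) (.br 14 16384 (.dead 6) (.br 15 32768 (.br 16 65536 (.dead 1) (.br 17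
  131072 (.dead 3) (.br 18 262144 (.dead 1) (.br 19 524288 (.dead 1) (.br 20 1048576 (.dead 0)
  (.br 21 6291456 (.full c23_11) .small)))))) (.dead 5)))))))) (.dead 9)))))))

/-- Search certificate, step 9. -/
def c23_9 : Cert :=
  (.start 1136 (.br 0 1 (.dead 5) (.br 2 4 (.dead 7) (.br 3 8 (.dead 7) (.br 7 128 (.dead 1) (.br
  1 2 (.br 8 256 (.dead 5) (.br 9 512 (.dead 1) (.br 11 2048 (.dead 4) (.br 12 4096 (.br 13 8192
  (.dead 0) (.br 14 16384 (.dead 5) (.br 15 32768 (.dead 1) (.br 16 65536 (.dead 0) (.br 17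
  131072 (.dead 2) (.br 18 262144 (.dead 0) (.br 19 524288 (.dead 0) (.br 20 7340032 (.full
  c23_10) .small)))))))) (.dead 6))))) (.dead 8)))))))

/-- Search certificate, step 8. -/
def c23_8 : Cert :=
  (.start 270384 (.br 0 1 (.dead 4) (.br 1 2 (.dead 3) (.br 3 8 (.dead 3) (.br 6 64 (.dead 0)
  (.br 7 128 (.dead 0) (.br 2 4 (.dead 7) (.br 8 256 (.dead 4) (.br 9 512 (.dead 0) (.br 10 1024
  (.br 11 2048 (.dead 3) (.br 12 4096 (.dead 5) (.br 14 16384 (.dead 4) (.br 15 32768 (.dead 0)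
  (.br 16 65536 (.br 17 131072 (.dead 1) (.br 19 7864320 (.full c23_9) .small)) (.dead 2))))))
  (.dead 6)))))))))))

/-- Search certificate, step 7. -/
def c23_7 : Cert :=
  (.start 32880 (.br 0 1 (.dead 3) (.br 1 2 (.dead 2) (.br 3 8 (.dead 2) (.br 8 256 (.dead 0)
  (.br 11 2048 (.dead 2) (.br 12 4096 (.dead 0) (.br 2 4 (.dead 4) (.br 7 128 (.br 13 8192 (.dead
  2) (.br 14 16384 (.dead 3) (.br 16 65536 (.dead 0) (.br 9 512 (.br 10 1024 (.dead 5) (.br 17
  131072 (.dead 0) (.br 18 8126464 (.full c23_8) .small))) (.dead 1))))) (.dead 6))))))))))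

/-- Search certificate, step 6. -/
def c23_6 : Cert :=
  (.start 33072 (.br 0 1 (.dead 2) (.br 1 2 (.dead 1) (.br 2 4 (.dead 4) (.br 3 8 (.dead 1) (.br
  6 64 (.dead 2) (.br 7 128 (.dead 5) (.br 9 512 (.dead 4) (.br 10 1024 (.dead 4) (.br 11 2048
  (.dead 1) (.br 12 4096 (.br 13 8192 (.dead 1) (.br 14 16384 (.dead 2) (.br 16 65536 (.br 17
  8257536 (.full c23_7) .small) (.dead 0)))) (.dead 3))))))))))))

/-- Search certificate, step 5. -/
def c23_5 : Cert :=
  (.start 8280 (.br 0 1 (.dead 1) (.br 1 2 (.dead 0) (.br 2 4 (.dead 4) (.br 5 32 (.dead 0) (.br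
  7 128 (.dead 4) (.br 8 256 (.dead 1) (.br 9 1536 (.br 10 1024 (.dead 3) (.br 11 2048 (.dead 0)
  (.br 12 4096 (.br 14 16384 (.dead 1) (.br 15 32768 (.dead 0) (.br 16 8323072 (.full c23_6)
  .small))) (.dead 2)))) (.dead 3)))))))))

/-- Search certificate, step 4. -/
def c23_4 : Cert :=
  (.start 58 (.br 0 1 (.dead 3) (.br 2 4 (.dead 2) (.br 6 64 (.dead 3) (.br 7 128 (.dead 3) (.br
  8 256 (.dead 2) (.br 9 1536 (.dead 2) (.br 11 6144 (.br 12 4096 (.dead 1) (.br 13 24576 (.br 14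
  16384 (.dead 0) (.br 15 8355840 (.full c23_5) .small)) (.dead 0))) (.dead 1)))))))))

/-- Search certificate, step 3. -/
def c23_3 : Cert :=
  (.start 305 (.br 1 2 (.dead 0) (.br 2 4 (.dead 0) (.br 3 8 (.dead 1) (.br 6 192 (.br 7 128
  (.dead 2) (.br 9 1536 (.dead 1) (.br 11 6144 (.dead 0) (.br 13 8380416 (.br 14 8372224 (.full
  c23_4) .small) .small)))) (.dead 2))))))

/-- Search certificate, step 2. -/
def c23_2 : Cert :=
  (.start 39 (.br 3 8 (.dead 1) (.br 4 16 (.dead 1) (.br 6 192 (.dead 1) (.br 8 1792 (.br 9 1536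
  (.dead 0) (.br 11 8386560 (.br 12 8384512 (.full c23_3) .small) .small)) (.dead 0))))))

/-- Search certificate, step 1. -/
def c23_1 : Cert :=
  (.start 60 (.br 0 1 (.dead 0) (.br 1 2 (.dead 0) (.br 6 192 (.dead 0) (.br 8 8388352 (.br 9
  8388096 (.br 10 8387584 (.full c23_2) .small) .small) .small)))))

/-- Search certificate, step 0. -/
def c23_0 : Cert :=
  (.br 6 8388544 (.br 7 8388480 (.full c23_1) .small) .small)

/-- The blocks found by the search. -/
def tg23 : List ℕ :=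
  [6296416, 2130345, 1053810, 861232, 295664, 233776, 78424, 43066, 24945, 6439, 1852, 223]

theorem check23 : checkAll 23 4 7 6 10
  []
  [tg23] c23_0 31 32 = true := by
  decide +kernel

/-- Rigidity certificate. -/
def rc23 : RCert :=
  (.inj 0 0 (.inj 1 1 (.inj 2 2 (.inj 3 3 (.inj 4 4 (.inj 5 5 (.blk 7 7 58 (.blk 10 10 60 (.blk
  11 11 15 (.blk 4 4 240 (.blk 1 1 32809 (.blk 5 5 33072 (.blk 3 3 263216 (.blk 0 0 864 (.blk 2 2
  114 .done)))))))))))))))

theorem rcheck23 : rcheck 23 4 tg23 rc23 (al0 23 6) = true := by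
  decide +kernel

/-- Columns of the parity check matrix. -/
def col23 (p : ℕ) : ℕ :=
  (29664492932326603420414107442413512108401549443574584658128772164351043882732290 >>> (12 * p)) % 4096

theorem colsOK23 : colsOK 23 tg23 col23 = true := by
  decide +kernel

theorem avoidAll23 : avoidAll col23 5 23 = true := by
  decide +kernel

end Cfsg.Lib.Steiner
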